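import Groth.Agent.Lib.Pinch4.Props
import Groth.Agent.Lib.FlatH4.PullChart
import Groth.Agent.Lib.DMod.ResClass
import Mathlib

/-!
# Base change of pinchings
-/

set_option autoImplicit false
set_option linter.style.haveILetI false
universe u

set_option backward.isDefEq.respectTransparency.types false

open AlgebraicGeometry CategoryTheory CategoryTheory.Limits TopologicalSpace Groth.Agent.FerrandPush TensorProduct

namespace Groth.Agent.Pinch4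

section ring

variable {k A A' B B' : Type u} [CommRing k] [CommRing A] [CommRing A'] [CommRing B] [CommRing B'] [Algebra k A]
  [Algebra k A'] [Algebra k B] [Algebra k B'] (p : A' →ₐ[k] A) (q : B →ₐ[k] A) (i : B' →ₐ[k] B) (j : B' →ₐ[k] A')

theorem ferrand_seq (H : IsFerrand p.toRingHom q.toRingHom i.toRingHom j.toRingHom) :
    Function.Injective (i.toLinearMap.prod j.toLinearMap) ∧
      Function.Exact (i.toLinearMap.prod j.toLinearMap)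
        (q.toLinearMap ∘ₗ LinearMap.fst k B A' - p.toLinearMap ∘ₗ LinearMap.snd k B A') ∧
      Function.Surjective (q.toLinearMap ∘ₗ LinearMap.fst k B A' - p.toLinearMap ∘ₗ LinearMap.snd k B A') := by
  refine ⟨fun x y h => H.ext x y (congrArg Prod.fst h) (congrArg Prod.snd h), fun ⟨b, a⟩ => ⟨fun h => ?_, ?_⟩,
    fun y => ?_⟩
  · obtain ⟨x, hx1, hx2⟩ := H.exist b a (sub_eq_zero.1 h)
    exact ⟨x, Prod.ext hx1 hx2⟩
  · rintro ⟨x, hx⟩
    rw [← hx]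
    exact sub_eq_zero.2 (H.comm x)
  · obtain ⟨a, ha⟩ := H.surj (-y)
    refine ⟨(0, a), ?_⟩
    show q 0 - p.toRingHom a = y
    rw [ha, map_zero, sub_neg_eq_add, zero_add]

/-- The corner of a Ferrand square of flat algebras is flat. -/
theorem flat_corner (H : IsFerrand p.toRingHom q.toRingHom i.toRingHom j.toRingHom) [Module.Flat k A]
    [Module.Flat k A'] [Module.Flat k B] : Module.Flat k B' := by
  obtain ⟨h1, h2, h3⟩ := ferrand_seq p q i j H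
  refine DMod.flat_left_of_exact h1 h2 h3 ?_ inferInstance
  rw [Module.Flat.iff_lTensor_preserves_injective_linearMap]
  intro N N' _ _ _ _ f hf
  have hB := Module.Flat.lTensor_preserves_injective_linearMap (M := B) f hf
  have hA := Module.Flat.lTensor_preserves_injective_linearMap (M := A') f hf
  have hcomm : (TensorProduct.prodLeft k k B A' N').toLinearMap ∘ₗ f.lTensor (B × A') =
      ((f.lTensor B).prodMap (f.lTensor A')) ∘ₗ (TensorProduct.prodLeft k k B A' N).toLinearMap := by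
    refine TensorProduct.ext' fun ⟨b₀, a₀⟩ n => ?_
    simp
  intro x y hxy
  refine (TensorProduct.prodLeft k k B A' N).injective (Prod.map_injective.2 ⟨hB, hA⟩ ?_)
  exact (LinearMap.congr_fun hcomm x).symm.trans
    ((congrArg (TensorProduct.prodLeft k k B A' N') hxy).trans (LinearMap.congr_fun hcomm y))

/-- Base change of a Ferrand square. -/
theorem tensor (H : IsFerrand p.toRingHom q.toRingHom i.toRingHom j.toRingHom) (K : Type u) [CommRing K] [Algebra k K]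
    (hf : Module.Flat k K ∨ Module.Flat k A ∨ ∃ r : A' →ₗ[k] B', ∀ x, r (j x) = x) :
    IsFerrand (Algebra.TensorProduct.map p (AlgHom.id k K)).toRingHom (Algebra.TensorProduct.map q (AlgHom.id k K)).toRingHom
      (Algebra.TensorProduct.map i (AlgHom.id k K)).toRingHom (Algebra.TensorProduct.map j (AlgHom.id k K)).toRingHom := by
  obtain ⟨h1, h2, h3⟩ := ferrand_seq p q i j H
  let ι := i.toLinearMap.prod j.toLinearMap
  let δ := q.toLinearMap ∘ₗ LinearMap.fst k B A' - p.toLinearMap ∘ₗ LinearMap.snd k B A'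
  let e := TensorProduct.prodLeft k k B A' K
  have hinj : Function.Injective (ι.rTensor K) := by
    rcases hf with hf | hf | ⟨r, hr⟩
    · exact Module.Flat.rTensor_preserves_injective_linearMap ι h1
    · exact DMod.rTensor_injective_of_flat h1 h2 h3 K
    · refine Function.LeftInverse.injective (g := (r ∘ₗ LinearMap.snd k B A').rTensor K) fun z => ?_
      rw [← LinearMap.comp_apply, ← LinearMap.rTensor_comp,
        show (r ∘ₗ LinearMap.snd k B A') ∘ₗ ι = LinearMap.id from LinearMap.ext hr, LinearMap.rTensor_id,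
        LinearMap.id_apply]
  have hι : ∀ z, e (ι.rTensor K z) = (Algebra.TensorProduct.map i (AlgHom.id k K) z,
      Algebra.TensorProduct.map j (AlgHom.id k K) z) := by
    intro z
    induction z using TensorProduct.induction_on with
    | zero => simp [Prod.ext_iff]
    | tmul x y => simp [e, ι]
    | add x y hx hy => simp only [map_add, hx, hy, Prod.mk_add_mk]
  have hδ : ∀ z, δ.rTensor K z = Algebra.TensorProduct.map q (AlgHom.id k K) (e z).1 -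
      Algebra.TensorProduct.map p (AlgHom.id k K) (e z).2 := by
    intro z
    induction z using TensorProduct.induction_on with
    | zero => simp
    | tmul x y =>
      obtain ⟨b₀, a₀⟩ := x
      simp [e, δ, TensorProduct.sub_tmul]
    | add x y hx hy => simp only [map_add, hx, hy, Prod.fst_add, Prod.snd_add]; abel
  refine ⟨fun y => ?_, fun x => ?_, fun b a h => ?_, fun x y hx hy => ?_⟩
  · obtain ⟨z, rfl⟩ := LinearMap.rTensor_surjective K (show Function.Surjective p.toLinearMap from H.surj) y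
    refine ⟨z, ?_⟩
    induction z using TensorProduct.induction_on with
    | zero => simp
    | tmul x y => simp
    | add x y hx hy => simp only [map_add]; exact congrArg₂ (· + ·) hx hy
  · show Algebra.TensorProduct.map q _ (Algebra.TensorProduct.map i _ x) =
      Algebra.TensorProduct.map p _ (Algebra.TensorProduct.map j _ x)
    have := hδ (ι.rTensor K x)
    rw [← LinearMap.comp_apply, ← LinearMap.rTensor_comp, h2.linearMap_comp_eq_zero, LinearMap.rTensor_zero,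
      LinearMap.zero_apply, hι] at this
    exact sub_eq_zero.1 this.symm
  · obtain ⟨x, hx⟩ := (rTensor_exact K h2 h3 (e.symm (b, a))).1 (by
      rw [hδ, e.apply_symm_apply]; exact sub_eq_zero.2 h)
    have := hι x
    rw [show ι.rTensor K x = e.symm (b, a) from hx, e.apply_symm_apply] at this
    exact ⟨x, (congrArg Prod.fst this).symm, (congrArg Prod.snd this).symm⟩
  · refine hinj (e.injective ?_)
    rw [hι, hι]
    exact Prod.ext hx hy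

/-- If `q` is injective with projective cokernel then `j` is split. -/
theorem exists_retraction (H : IsFerrand p.toRingHom q.toRingHom i.toRingHom j.toRingHom) (hq : Function.Injective q)
    [Module.Projective k (A ⧸ LinearMap.range q.toLinearMap)] : ∃ r : A' →ₗ[k] B', ∀ x, r (j x) = x := by
  let π : A' →ₗ[k] A ⧸ LinearMap.range q.toLinearMap := (LinearMap.range q.toLinearMap).mkQ ∘ₗ p.toLinearMap
  have hπ : Function.Surjective π := (Submodule.mkQ_surjective _).comp H.surj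
  obtain ⟨σ, hσ⟩ := Module.projective_lifting_property π LinearMap.id hπ
  have hj : Function.Injective j.toLinearMap := fun x y h => H.ext x y (hq ((H.comm x).trans
    ((congrArg p.toRingHom h).trans (H.comm y).symm))) h
  let e := LinearEquiv.ofInjective j.toLinearMap hj
  have hmem : ∀ a, a - σ (π a) ∈ LinearMap.range j.toLinearMap := fun a => by
    have h0 : π (a - σ (π a)) = 0 := by
      rw [map_sub, ← LinearMap.comp_apply π σ, hσ, LinearMap.id_apply, sub_self]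
    obtain ⟨b, hb⟩ := (Submodule.Quotient.mk_eq_zero _).1 h0
    obtain ⟨x, -, hx⟩ := H.exist b _ hb
    exact ⟨x, hx⟩
  refine ⟨e.symm.toLinearMap ∘ₗ (LinearMap.id - σ ∘ₗ π).codRestrict _ hmem, fun x => ?_⟩
  apply e.injective
  refine (e.apply_symm_apply _).trans (Subtype.ext ?_)
  show j x - σ (π (j x)) = j x
  have h0 : π (j x) = 0 := (Submodule.Quotient.mk_eq_zero _).2 ⟨i x, H.comm x⟩
  rw [h0, map_zero, sub_zero]

theorem exists_bij {R K L T : CommRingCat.{u}} {φ : R ⟶ L} {ψ : R ⟶ K} {f : L ⟶ T} {h : K ⟶ T}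
    (hpo : IsPushout φ ψ f h) :
    letI := φ.hom.toAlgebra
    letI := ψ.hom.toAlgebra
    ∃ e : L ⊗[R] K →+* T, Function.Bijective e ∧ ∀ x y, e (x ⊗ₜ y) = f x * h y := by
  letI := φ.hom.toAlgebra
  letI := ψ.hom.toAlgebra
  have hc := CommRingCat.isPushout_tensorProduct R L K
  let e := (hc.isoIsPushout _ _ hpo).hom
  refine ⟨e.hom, ConcreteCategory.bijective_of_isIso e, fun x y => ?_⟩
  rw [show x ⊗ₜ[R] y = (x ⊗ₜ[R] (1 : K)) * ((1 : L) ⊗ₜ[R] y) by simp, map_mul]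
  exact congrArg₂ (· * ·) (congrArg (fun k => k.hom x) (IsPushout.inl_isoIsPushout_hom _ _ hc hpo))
    (congrArg (fun k => k.hom y) (IsPushout.inr_isoIsPushout_hom _ _ hc hpo))

end ring

section scheme

variable {X Y Z P S X' Y' Z' P' S' : Scheme.{u}} {i : Z ⟶ X} {j : Z ⟶ Y} {a : X ⟶ P} {b : Y ⟶ P} {s : P ⟶ S}
  {g : S' ⟶ S} {gP : P' ⟶ P} {sP' : P' ⟶ S'} {gX : X' ⟶ X} {a' : X' ⟶ P'} {gY : Y' ⟶ Y} {b' : Y' ⟶ P'}
  {gZ : Z' ⟶ Z} {i' : Z' ⟶ X'} {j' : Z' ⟶ Y'}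

theorem appLE_flat {V W : Scheme.{u}} (f : V ⟶ W) [Flat f] {U : W.Opens} (hU : IsAffineOpen U) {U' : V.Opens}
    (hU' : IsAffineOpen U') (e : U' ≤ f ⁻¹ᵁ U) : (f.appLE U U' e).hom.Flat :=
  f.flat_appLE hU hU' e

/-- Base change of a chart. -/
theorem Chart.baseChange {O : P.Opens} (c : Chart i j a b O) (w : i ≫ a = j ≫ b) (hP : IsPullback gP sP' s g)
    (hX : IsPullback gX a' a gP) (hY : IsPullback gY b' b gP) (hZ : IsPullback gZ i' i gX) (hj : j' ≫ gY = gZ ≫ j)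
    (w' : i' ≫ a' = j' ≫ b') {V : S.Opens} (hV : IsAffineOpen V) {V' : S'.Opens} (hV' : IsAffineOpen V')
    (hV'V : V' ≤ g ⁻¹ᵁ V) (hOV : O ≤ s ⁻¹ᵁ V)
    (hf : Flat g ∨ Flat ((i ≫ a) ≫ s) ∨ Subsingleton Γ(Z, i ⁻¹ᵁ a ⁻¹ᵁ O) ∨
      ∀ (_ : Algebra Γ(S, V) Γ(Y, b ⁻¹ᵁ O)) (_ : Algebra Γ(S, V) Γ(Z, i ⁻¹ᵁ a ⁻¹ᵁ O))
        (q : Γ(Y, b ⁻¹ᵁ O) →ₐ[Γ(S, V)] Γ(Z, i ⁻¹ᵁ a ⁻¹ᵁ O)),
        algebraMap Γ(S, V) Γ(Z, i ⁻¹ᵁ a ⁻¹ᵁ O) = ((i ≫ a ≫ s).appLE V (i ⁻¹ᵁ a ⁻¹ᵁ O) (i.preimage_mono (a.preimage_mono hOV))).hom →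
          q.toRingHom = (j.appLE (b ⁻¹ᵁ O) (i ⁻¹ᵁ a ⁻¹ᵁ O) c.le).hom →
            Function.Injective q ∧ Module.Projective Γ(S, V) (Γ(Z, i ⁻¹ᵁ a ⁻¹ᵁ O) ⧸ LinearMap.range q.toLinearMap)) :
    Chart i' j' a' b' (gP ⁻¹ᵁ O ⊓ sP' ⁻¹ᵁ V') := by
  let O' := gP ⁻¹ᵁ O ⊓ sP' ⁻¹ᵁ V'
  have hX2 : IsPullback gX (a' ≫ sP') (a ≫ s) g := hX.paste_vert hP
  have hY2 : IsPullback gY (b' ≫ sP') (b ≫ s) g := hY.paste_vert hP
  have hZ2 : IsPullback gZ (i' ≫ a' ≫ sP') (i ≫ a ≫ s) g := hZ.paste_vert hX2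
  have eO : O' = gP ⁻¹ᵁ O ⊓ sP' ⁻¹ᵁ V' := rfl
  have hUX : a ⁻¹ᵁ O ≤ (a ≫ s) ⁻¹ᵁ V := a.preimage_mono hOV
  have eX : a' ⁻¹ᵁ O' = gX ⁻¹ᵁ (a ⁻¹ᵁ O) ⊓ (a' ≫ sP') ⁻¹ᵁ V' := by
    show a' ⁻¹ᵁ gP ⁻¹ᵁ O ⊓ a' ⁻¹ᵁ sP' ⁻¹ᵁ V' = _
    rw [← Scheme.Hom.comp_preimage, ← hX.w, Scheme.Hom.comp_preimage, Scheme.Hom.comp_preimage]
  have hUY : b ⁻¹ᵁ O ≤ (b ≫ s) ⁻¹ᵁ V := b.preimage_mono hOV
  have eY : b' ⁻¹ᵁ O' = gY ⁻¹ᵁ (b ⁻¹ᵁ O) ⊓ (b' ≫ sP') ⁻¹ᵁ V' := by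
    show b' ⁻¹ᵁ gP ⁻¹ᵁ O ⊓ b' ⁻¹ᵁ sP' ⁻¹ᵁ V' = _
    rw [← Scheme.Hom.comp_preimage, ← hY.w, Scheme.Hom.comp_preimage, Scheme.Hom.comp_preimage]
  have hUZ : i ⁻¹ᵁ a ⁻¹ᵁ O ≤ (i ≫ a ≫ s) ⁻¹ᵁ V := i.preimage_mono hUX
  have eZ : i' ⁻¹ᵁ a' ⁻¹ᵁ O' = gZ ⁻¹ᵁ (i ⁻¹ᵁ a ⁻¹ᵁ O) ⊓ (i' ≫ a' ≫ sP') ⁻¹ᵁ V' := by
    rw [eX]
    show i' ⁻¹ᵁ gX ⁻¹ᵁ a ⁻¹ᵁ O ⊓ i' ⁻¹ᵁ (a' ≫ sP') ⁻¹ᵁ V' = _
    rw [← Scheme.Hom.comp_preimage, ← hZ.w, Scheme.Hom.comp_preimage, ← Scheme.Hom.comp_preimage i' (a' ≫ sP')]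
  have le' : i' ⁻¹ᵁ a' ⁻¹ᵁ O' ≤ j' ⁻¹ᵁ b' ⁻¹ᵁ O' := by
    rw [← Scheme.Hom.comp_preimage, w', Scheme.Hom.comp_preimage]
  refine ⟨FlatH4.isAffineOpen_of_isPullback hP hV'V hOV eO hV hV' c.affO,
    FlatH4.isAffineOpen_of_isPullback hX2 hV'V hUX eX hV hV' c.affX,
    FlatH4.isAffineOpen_of_isPullback hY2 hV'V hUY eY hV hV' c.affY,
    FlatH4.isAffineOpen_of_isPullback hZ2 hV'V hUZ eZ hV hV' c.affZ, le', ?_⟩
  have pP := FlatH4.isPushout_sections hP hV'V hOV eO hV hV' c.affO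
  have pX := FlatH4.isPushout_sections hX2 hV'V hUX eX hV hV' c.affX
  have pY := FlatH4.isPushout_sections hY2 hV'V hUY eY hV hV' c.affY
  have pZ := FlatH4.isPushout_sections hZ2 hV'V hUZ eZ hV hV' c.affZ
  letI := (g.appLE V V' hV'V).hom.toAlgebra
  letI := (s.appLE V O hOV).hom.toAlgebra
  letI := ((a ≫ s).appLE V (a ⁻¹ᵁ O) hUX).hom.toAlgebra
  letI := ((b ≫ s).appLE V (b ⁻¹ᵁ O) hUY).hom.toAlgebra
  letI := ((i ≫ a ≫ s).appLE V (i ⁻¹ᵁ a ⁻¹ᵁ O) hUZ).hom.toAlgebra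
  obtain ⟨eB', bB', fB'⟩ := exists_bij pP
  obtain ⟨eA', bA', fA'⟩ := exists_bij pX
  obtain ⟨eB, bB, fB⟩ := exists_bij pY
  obtain ⟨eA, bA, fA⟩ := exists_bij pZ
  let pa : Γ(X, a ⁻¹ᵁ O) →ₐ[Γ(S, V)] Γ(Z, i ⁻¹ᵁ a ⁻¹ᵁ O) :=
    { (i.app (a ⁻¹ᵁ O)).hom with
      commutes' := fun r => by
        show ((a ≫ s).appLE V (a ⁻¹ᵁ O) hUX ≫ i.app (a ⁻¹ᵁ O)) r = (i ≫ a ≫ s).appLE V _ hUZ r
        rw [Scheme.Hom.app_eq_appLE, Scheme.Hom.appLE_comp_appLE] }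
  let qa : Γ(Y, b ⁻¹ᵁ O) →ₐ[Γ(S, V)] Γ(Z, i ⁻¹ᵁ a ⁻¹ᵁ O) :=
    { (j.appLE (b ⁻¹ᵁ O) (i ⁻¹ᵁ a ⁻¹ᵁ O) c.le).hom with
      commutes' := fun r => by
        show ((b ≫ s).appLE V (b ⁻¹ᵁ O) hUY ≫ j.appLE (b ⁻¹ᵁ O) (i ⁻¹ᵁ a ⁻¹ᵁ O) c.le) r = _
        rw [Scheme.Hom.appLE_comp_appLE]
        simp only [← Category.assoc, ← w]
        simp only [Category.assoc]
        rfl }
  let ia : Γ(P, O) →ₐ[Γ(S, V)] Γ(Y, b ⁻¹ᵁ O) :=
    { (b.app O).hom with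
      commutes' := fun r => by
        show (s.appLE V O hOV ≫ b.app O) r = (b ≫ s).appLE V _ hUY r
        rw [Scheme.Hom.app_eq_appLE, Scheme.Hom.appLE_comp_appLE] }
  let ja : Γ(P, O) →ₐ[Γ(S, V)] Γ(X, a ⁻¹ᵁ O) :=
    { (a.app O).hom with
      commutes' := fun r => by
        show (s.appLE V O hOV ≫ a.app O) r = (a ≫ s).appLE V _ hUX r
        rw [Scheme.Hom.app_eq_appLE, Scheme.Hom.appLE_comp_appLE] }
  have hflat : Module.Flat Γ(S, V) Γ(S', V') ∨ Module.Flat Γ(S, V) Γ(Z, i ⁻¹ᵁ a ⁻¹ᵁ O) ∨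
      ∃ r : Γ(X, a ⁻¹ᵁ O) →ₗ[Γ(S, V)] Γ(P, O), ∀ x, r (ja x) = x := by
    rcases hf with hf | hf | hf | hf
    · exact Or.inl (appLE_flat g hV hV' hV'V)
    · rw [Category.assoc] at hf
      exact Or.inr (Or.inl (appLE_flat (i ≫ a ≫ s) hV c.affZ hUZ))
    · exact Or.inr (Or.inl inferInstance)
    · obtain ⟨hinj, _⟩ := hf _ _ qa rfl rfl
      exact Or.inr (Or.inr (exists_retraction pa qa ia ja c.ferrand hinj))
  refine congr (tensor pa qa ia ja c.ferrand Γ(S', V') hflat) eA eA' eB eB' bA bA' bB bB' ?_ ?_ ?_ ?_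
  all_goals
    refine RingHom.ext fun z => ?_
    induction z using TensorProduct.induction_on with
    | zero => simp only [map_zero]
    | add x y hx hy => simp only [map_add, hx, hy]
    | tmul x y => ?_
  · show (i'.app (a' ⁻¹ᵁ O')).hom (eA' (x ⊗ₜ y)) = eA ((pa x) ⊗ₜ y)
    rw [fA', fA, map_mul]
    refine congrArg₂ (· * ·) ?_ ?_
    · show (gX.appLE (a ⁻¹ᵁ O) (a' ⁻¹ᵁ O') _ ≫ i'.app (a' ⁻¹ᵁ O')) x = (i.app (a ⁻¹ᵁ O) ≫ gZ.appLE _ _ _) x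
      simp only [Scheme.Hom.app_eq_appLE]
      rw [sq_appLE hZ.w.symm]
    · show ((a' ≫ sP').appLE V' (a' ⁻¹ᵁ O') _ ≫ i'.app (a' ⁻¹ᵁ O')) y = _
      rw [Scheme.Hom.app_eq_appLE, Scheme.Hom.appLE_comp_appLE]
  · show (j'.appLE (b' ⁻¹ᵁ O') _ le').hom (eB (x ⊗ₜ y)) = eA ((qa x) ⊗ₜ y)
    rw [fB, fA, map_mul]
    refine congrArg₂ (· * ·) ?_ ?_
    · show (gY.appLE (b ⁻¹ᵁ O) (b' ⁻¹ᵁ O') _ ≫ j'.appLE (b' ⁻¹ᵁ O') _ le') x =
        (j.appLE (b ⁻¹ᵁ O) _ c.le ≫ gZ.appLE _ _ _) x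
      rw [sq_appLE hj]
    · show ((b' ≫ sP').appLE V' (b' ⁻¹ᵁ O') _ ≫ j'.appLE (b' ⁻¹ᵁ O') _ le') y = _
      rw [Scheme.Hom.appLE_comp_appLE]
      simp only [← Category.assoc, ← w']
  · show (b'.app O').hom (eB' (x ⊗ₜ y)) = eB ((ia x) ⊗ₜ y)
    rw [fB', fB, map_mul]
    refine congrArg₂ (· * ·) ?_ ?_
    · show (gP.appLE O O' _ ≫ b'.app O') x = (b.app O ≫ gY.appLE _ _ _) x
      simp only [Scheme.Hom.app_eq_appLE]
      rw [sq_appLE hY.w.symm]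
    · show (sP'.appLE V' O' _ ≫ b'.app O') y = _
      rw [Scheme.Hom.app_eq_appLE, Scheme.Hom.appLE_comp_appLE]
  · show (a'.app O').hom (eB' (x ⊗ₜ y)) = eA' ((ja x) ⊗ₜ y)
    rw [fB', fA', map_mul]
    refine congrArg₂ (· * ·) ?_ ?_
    · show (gP.appLE O O' _ ≫ a'.app O') x = (a.app O ≫ gX.appLE _ _ _) x
      simp only [Scheme.Hom.app_eq_appLE]
      rw [sq_appLE hX.w.symm]
    · show (sP'.appLE V' O' _ ≫ a'.app O') y = _
      rw [Scheme.Hom.app_eq_appLE, Scheme.Hom.appLE_comp_appLE]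

/-- Base change of a pinching along a flat morphism, or when the glued locus is flat over the base. -/
theorem IsPinch.baseChange (H : IsPinch i j a b) (hP : IsPullback gP sP' s g) (hX : IsPullback gX a' a gP)
    (hY : IsPullback gY b' b gP) (hZ : IsPullback gZ i' i gX) (hj : j' ≫ gY = gZ ≫ j)
    (w' : i' ≫ a' = j' ≫ b') (hf : Flat g ∨ Flat ((i ≫ a) ≫ s)) : IsPinch i' j' a' b' := by
  refine ⟨w', fun x' => ?_⟩
  obtain ⟨V, hV, hxV, -⟩ := exists_isAffineOpen_mem_and_subset (X := S) (x := g (sP' x')) (U := ⊤) trivial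
  obtain ⟨V', hV', hxV', hV'V⟩ := exists_isAffineOpen_mem_and_subset (X := S') (x := sP' x') (U := g ⁻¹ᵁ V) hxV
  obtain ⟨O, hxO, hOV, c⟩ := H.exists_chart_le (gP x') (s ⁻¹ᵁ V) (by
    show s (gP x') ∈ V
    rw [← Scheme.Hom.comp_apply, hP.w, Scheme.Hom.comp_apply]; exact hxV)
  exact ⟨gP ⁻¹ᵁ O ⊓ sP' ⁻¹ᵁ V', ⟨hxO, hxV'⟩, c.baseChange H.w hP hX hY hZ hj w' hV hV' hV'V hOV (hf.imp id Or.inl)⟩

/-- A pinching of schemes flat over the base is flat over the base. -/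
theorem IsPinch.flat (H : IsPinch i j a b) (s : P ⟶ S) [Flat ((i ≫ a) ≫ s)] [Flat (a ≫ s)] [Flat (b ≫ s)] :
    Flat s := by
  have hfl : Flat (i ≫ a ≫ s) := by rw [← Category.assoc]; infer_instance
  have key : ∀ x : P, ∃ (V : S.Opens) (_ : IsAffineOpen V) (O : P.Opens) (e : O ≤ s ⁻¹ᵁ V),
      IsAffineOpen O ∧ x ∈ O ∧ (s.appLE V O e).hom.Flat := by
    intro x
    obtain ⟨V, hV, hxV, -⟩ := exists_isAffineOpen_mem_and_subset (X := S) (x := s x) (U := ⊤) trivial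
    obtain ⟨O, hxO, hOV, c⟩ := H.exists_chart_le x (s ⁻¹ᵁ V) hxV
    refine ⟨V, hV, O, hOV, c.affO, hxO, ?_⟩
    letI := (s.appLE V O hOV).hom.toAlgebra
    letI := ((a ≫ s).appLE V (a ⁻¹ᵁ O) (a.preimage_mono hOV)).hom.toAlgebra
    letI := ((b ≫ s).appLE V (b ⁻¹ᵁ O) (b.preimage_mono hOV)).hom.toAlgebra
    letI := ((i ≫ a ≫ s).appLE V (i ⁻¹ᵁ a ⁻¹ᵁ O) (i.preimage_mono (a.preimage_mono hOV))).hom.toAlgebra
    haveI : Module.Flat Γ(S, V) Γ(X, a ⁻¹ᵁ O) := appLE_flat (a ≫ s) hV c.affX _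
    haveI : Module.Flat Γ(S, V) Γ(Y, b ⁻¹ᵁ O) := appLE_flat (b ≫ s) hV c.affY _
    haveI : Module.Flat Γ(S, V) Γ(Z, i ⁻¹ᵁ a ⁻¹ᵁ O) := appLE_flat (i ≫ a ≫ s) hV c.affZ _
    let pa : Γ(X, a ⁻¹ᵁ O) →ₐ[Γ(S, V)] Γ(Z, i ⁻¹ᵁ a ⁻¹ᵁ O) :=
      { (i.app (a ⁻¹ᵁ O)).hom with
        commutes' := fun r => by
          show ((a ≫ s).appLE V (a ⁻¹ᵁ O) _ ≫ i.app (a ⁻¹ᵁ O)) r = (i ≫ a ≫ s).appLE V _ _ r
          rw [Scheme.Hom.app_eq_appLE, Scheme.Hom.appLE_comp_appLE] }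
    let qa : Γ(Y, b ⁻¹ᵁ O) →ₐ[Γ(S, V)] Γ(Z, i ⁻¹ᵁ a ⁻¹ᵁ O) :=
      { (j.appLE (b ⁻¹ᵁ O) (i ⁻¹ᵁ a ⁻¹ᵁ O) c.le).hom with
        commutes' := fun r => by
          show ((b ≫ s).appLE V (b ⁻¹ᵁ O) _ ≫ j.appLE (b ⁻¹ᵁ O) (i ⁻¹ᵁ a ⁻¹ᵁ O) c.le) r = _
          rw [Scheme.Hom.appLE_comp_appLE]
          simp only [← Category.assoc, ← H.w]
          simp only [Category.assoc]
          rfl }
    let ia : Γ(P, O) →ₐ[Γ(S, V)] Γ(Y, b ⁻¹ᵁ O) :=
      { (b.app O).hom with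
        commutes' := fun r => by
          show (s.appLE V O hOV ≫ b.app O) r = (b ≫ s).appLE V _ _ r
          rw [Scheme.Hom.app_eq_appLE, Scheme.Hom.appLE_comp_appLE] }
    let ja : Γ(P, O) →ₐ[Γ(S, V)] Γ(X, a ⁻¹ᵁ O) :=
      { (a.app O).hom with
        commutes' := fun r => by
          show (s.appLE V O hOV ≫ a.app O) r = (a ≫ s).appLE V _ _ r
          rw [Scheme.Hom.app_eq_appLE, Scheme.Hom.appLE_comp_appLE] }
    exact flat_corner pa qa ia ja c.ferrand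
  refine (HasRingHomProperty.iff_exists_appLE (P := @Flat)
    (RingHom.Flat.stableUnderComposition.stableUnderCompositionWithLocalizationAway RingHom.Flat.holdsForLocalizationAway).1).2 ?_
  intro x
  obtain ⟨V, hV, O, e, hO, hxO, hflat⟩ := key x
  exact ⟨⟨V, hV⟩, ⟨O, hO⟩, hxO, e, hflat⟩

end scheme

end Groth.Agent.Pinch4

namespace Groth.Agent.Pinch4

theorem isPullback_map {A P S S' : Scheme.{u}} (f : A ⟶ P) (q : P ⟶ S) (g : S' ⟶ S) (sA : A ⟶ S) (hs : f ≫ q = sA)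
    (m : pullback sA g ⟶ pullback q g) (h1 : m ≫ pullback.fst q g = pullback.fst sA g ≫ f)
    (h2 : m ≫ pullback.snd q g = pullback.snd sA g) :
    IsPullback (pullback.fst sA g) m f (pullback.fst q g) := by
  refine IsPullback.of_bot ?_ h1.symm (IsPullback.of_hasPullback q g)
  rw [h2, hs]
  exact IsPullback.of_hasPullback sA g

end Groth.Agent.Pinch4
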