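import Groth.Agent.Lib.Pinch4.Exists
import Groth.Agent.Lib.CI2.RImmBC
import Groth.Agent.S0440
import Mathlib

/-!
# Properties of pinchings, and the existence criteria
-/

set_option autoImplicit false
set_option linter.style.haveILetI false
universe u

set_option backward.isDefEq.respectTransparency.types false

open AlgebraicGeometry CategoryTheory CategoryTheory.Limits TopologicalSpace Groth.Agent.FerrandPush

namespace Groth.Agent.Pinch4

theorem appTop_restrict {X Y : Scheme.{u}} (f : X ⟶ Y) (U : Y.Opens)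
    (Q : ∀ {R S : Type u} [CommRing R] [CommRing S], (R →+* S) → Prop) (hQ : RingHom.RespectsIso Q)
    (h : Q (f.app U).hom) : Q (f ∣_ U).appTop.hom := by
  have key : ∀ V : Y.Opens, V = U → Q (f.app V).hom := by rintro V rfl; exact h
  rw [morphismRestrict_appTop]
  show Q (((X.presheaf.map (eqToHom (image_morphismRestrict_preimage f U ⊤)).op).hom).comp (f.app (U.ι ''ᵁ ⊤)).hom)
  exact hQ.1 _ (CategoryTheory.Iso.commRingCatIsoToRingEquiv
    (asIso (X.presheaf.map (eqToHom (image_morphismRestrict_preimage f U ⊤)).op))) (key _ (Scheme.Opens.ι_image_top U))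

variable {X Y Z P : Scheme.{u}} {i : Z ⟶ X} {j : Z ⟶ Y} {a : X ⟶ P} {b : Y ⟶ P}

theorem IsPinch.iSup_eq_top (H : IsPinch i j a b) : ⨆ O : {O : P.Opens // Chart i j a b O}, O.1 = ⊤ := by
  refine top_le_iff.1 fun x _ => ?_
  obtain ⟨O, hx, c⟩ := H.cover x
  exact Opens.mem_iSup.2 ⟨⟨O, c⟩, hx⟩

theorem IsPinch.isClosedImmersion_b (H : IsPinch i j a b) : IsClosedImmersion b := by
  rw [IsZariskiLocalAtTarget.iff_of_iSup_eq_top (P := @IsClosedImmersion) _ H.iSup_eq_top]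
  rintro ⟨O, c⟩
  haveI : IsAffine O.toScheme := c.affO
  haveI : IsAffine (b ⁻¹ᵁ O).toScheme := c.affY
  exact IsClosedImmersion.of_surjective_of_isAffine _ (appTop_restrict b O (fun f => Function.Surjective f)
    RingHom.surjective_respectsIso c.ferrand.surj_i)

theorem IsPinch.isAffineHom_a (H : IsPinch i j a b) : IsAffineHom a :=
  isAffineHom_of_forall_exists_isAffineOpen _ fun x =>
    let ⟨O, hx, c⟩ := H.cover x
    ⟨O, hx, c.affO, c.affX⟩

theorem IsPinch.isIntegralHom_a (H : IsPinch i j a b) [IsIntegralHom j] : IsIntegralHom a := by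
  rw [HasAffineProperty.iff_of_iSup_eq_top (P := @IsIntegralHom)
    (fun O : {O : P.Opens // Chart i j a b O} => ⟨O.1, O.2.affO⟩) H.iSup_eq_top]
  rintro ⟨O, c⟩
  refine ⟨c.affX, appTop_restrict a O (fun f => f.IsIntegral) RingHom.isIntegral_respectsIso ?_⟩
  refine isIntegral_j c.ferrand ?_
  have heq : i ⁻¹ᵁ a ⁻¹ᵁ O = j ⁻¹ᵁ b ⁻¹ᵁ O := by rw [← Scheme.Hom.comp_preimage, H.w, Scheme.Hom.comp_preimage]
  have h1 : (j.app (b ⁻¹ᵁ O)).hom.IsIntegral := IsIntegralHom.isIntegral_app _ _ c.affY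
  have key : ∀ (W : Z.Opens) (e : W ≤ j ⁻¹ᵁ b ⁻¹ᵁ O), W = j ⁻¹ᵁ b ⁻¹ᵁ O → (j.appLE (b ⁻¹ᵁ O) W e).hom.IsIntegral := by
    rintro W e rfl
    rw [← Scheme.Hom.app_eq_appLE]
    exact h1
  exact key _ _ heq

/-- A pinching square is cartesian. -/
theorem IsPinch.isPullback (H : IsPinch i j a b) [IsClosedImmersion i] : IsPullback i j a b := by
  haveI := H.isClosedImmersion_b
  haveI : IsClosedImmersion (pullback.fst a b) := MorphismProperty.pullback_fst _ _ inferInstance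
  have hcov : ⨆ O : {O : P.Opens // Chart i j a b O}, a ⁻¹ᵁ O.1 = ⊤ := by
    rw [← Scheme.Hom.preimage_iSup, H.iSup_eq_top, Scheme.Hom.preimage_top]
  have hker : i.ker = (pullback.fst a b).ker := by
    refine Scheme.IdealSheafData.ext_of_iSup_eq_top
      (fun O : {O : P.Opens // Chart i j a b O} => ⟨a ⁻¹ᵁ O.1, O.2.affX⟩) hcov ?_
    rintro ⟨O, c⟩
    haveI : IsClosedImmersion (b ∣_ O) := IsZariskiLocalAtTarget.restrict (P := @IsClosedImmersion) inferInstance _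
    rw [Scheme.Hom.ker_apply, Scheme.Hom.ker_apply,
      CI2.ker_app_of_isPullback (i := b) (g := a) (i' := pullback.fst a b) (g' := pullback.snd a b)
        (IsPullback.of_hasPullback a b).flip c.affO c.affX le_rfl, ← Scheme.Hom.app_eq_appLE]
    refine le_antisymm (fun f hf => ?_) (Ideal.map_le_iff_le_comap.2 fun r hr => ?_)
    · have hf' : f ∈ (a.app O).hom '' (RingHom.ker (b.app O).hom : Set Γ(P, O)) := ker_p c.ferrand ▸ hf
      obtain ⟨r, hr, rfl⟩ := hf'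
      exact Ideal.mem_map_of_mem _ hr
    · show (i.app (a ⁻¹ᵁ O)).hom ((a.app O).hom r) = 0
      rw [← c.ferrand.comm, RingHom.mem_ker.1 hr, map_zero]
  let d : Z ⟶ pullback a b := pullback.lift i j H.w
  haveI : IsIso d := IsClosedImmersion.isIso_of_ker_eq i (pullback.fst a b) d (pullback.lift_fst _ _ _) hker
  exact IsPullback.of_iso_pullback ⟨H.w⟩ (asIso d) (pullback.lift_fst _ _ _) (pullback.lift_snd _ _ _)

/-- The glued piece covers when the closed immersion is surjective. -/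
theorem IsPinch.surjective_b (H : IsPinch i j a b) (hi : Function.Surjective i) : Function.Surjective b := by
  intro x
  rcases H.covers x with ⟨z, rfl⟩ | h
  · obtain ⟨t, rfl⟩ := hi z
    exact ⟨j t, by rw [← Scheme.Hom.comp_apply, ← H.w, Scheme.Hom.comp_apply]⟩
  · exact h

/-- Any pushout of a span with the condition is a pinching. -/
theorem isPinch_of_cond [IsClosedImmersion i] (hc : Cond i j) (h : IsPushout i j a b) : IsPinch i j a b := by
  obtain ⟨P', a', b', H⟩ := exists_isPinch hc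
  exact isPinch_of_isPushout H h

/-- The condition, for a surjective closed immersion and an affine morphism. -/
theorem cond_of_surjective [IsClosedImmersion i] (hi : Function.Surjective i) [IsAffineHom j] : Cond i j := by
  intro y
  obtain ⟨V, hV, hyV, -⟩ := exists_isAffineOpen_mem_and_subset (X := Y) (x := y) (U := ⊤) trivial
  let U : X.Opens := ⟨(i '' ((j ⁻¹ᵁ V : Z.Opens) : Set Z)ᶜ)ᶜ,
    (i.isClosedEmbedding.isClosedMap _ (j ⁻¹ᵁ V).2.isClosed_compl).isOpen_compl⟩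
  have hU : i ⁻¹ᵁ U = j ⁻¹ᵁ V := by
    ext z
    constructor
    · intro hz
      by_contra h
      exact hz ⟨z, h, rfl⟩
    · rintro hz ⟨z', hz', he⟩
      exact hz' (i.isClosedEmbedding.injective he ▸ hz)
  haveI : IsClosedImmersion (i ∣_ U) := IsZariskiLocalAtTarget.restrict (P := @IsClosedImmersion) inferInstance _
  haveI : Surjective i := ⟨hi⟩
  haveI : Surjective (i ∣_ U) := IsZariskiLocalAtTarget.restrict (P := @Surjective) inferInstance _
  haveI : IsAffine (i ⁻¹ᵁ U).toScheme := hU ▸ hV.preimage j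
  exact ⟨⟨U, V, Groth.Agent.S0440.result (i ∣_ U) Surjective.surj, hV, hU⟩, hyV⟩

/-- The condition, for an integral morphism with fibres in affine opens. -/
theorem cond_of_integral [IsClosedImmersion i] [IsIntegralHom j]
    (haff : ∀ y : Y, ∃ U : X.Opens, IsAffineOpen U ∧ j ⁻¹' {y} ⊆ i ⁻¹' (U : Set X)) : Cond i j := by
  classical
  intro y
  obtain ⟨U₀, hU₀, hfib⟩ := haff y
  let W₀ := i ⁻¹ᵁ U₀
  have hW₀ : IsAffineOpen W₀ := hU₀.preimage i
  have shrink : ∀ (W : Z.Opens), j ⁻¹' {y} ⊆ (W : Set Z) → ∀ (V : Y.Opens), IsAffineOpen V → y ∈ V →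
      ∃ b : Γ(Y, V), y ∈ Y.basicOpen b ∧ j ⁻¹ᵁ Y.basicOpen b ≤ W := by
    intro W hW V hV hy
    let V' : Y.Opens := ⟨(j '' ((W : Set Z)ᶜ))ᶜ, (j.isClosedMap _ W.2.isClosed_compl).isOpen_compl⟩
    have hy' : y ∈ V' := fun ⟨z, hz, hzy⟩ => hz (hW hzy)
    obtain ⟨b, hb, hyb⟩ := hV.exists_basicOpen_le ⟨y, hy'⟩ hy
    refine ⟨b, hyb, fun z hz => ?_⟩
    by_contra h
    exact hb hz ⟨z, h, rfl⟩
  obtain ⟨V₀, hV₀, hyV₀, -⟩ := exists_isAffineOpen_mem_and_subset (X := Y) (x := y) (U := ⊤) trivial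
  obtain ⟨b₀, hyV₁, hVW⟩ := shrink W₀ hfib V₀ hV₀ hyV₀
  let V₁ := Y.basicOpen b₀
  have hV₁ : IsAffineOpen V₁ := hV₀.basicOpen b₀
  let W := j ⁻¹ᵁ V₁
  have hW : IsAffineOpen W := hV₁.preimage j
  let r := (Z.presheaf.map (homOfLE hVW).op).hom
  letI : Algebra Γ(Y, V₁) Γ(Z, W) := (j.app V₁).hom.toAlgebra
  haveI : Algebra.IsIntegral Γ(Y, V₁) Γ(Z, W) := ⟨IsIntegralHom.isIntegral_app _ _ hV₁⟩
  obtain ⟨s, hs, hsW⟩ : ∃ s : Finset Γ(Z, W₀), (∀ g ∈ s, Z.basicOpen g ≤ W) ∧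
      ∀ z ∈ W, ∃ g ∈ s, z ∈ Z.basicOpen g := by
    have : ∀ z : W, ∃ g : Γ(Z, W₀), Z.basicOpen g ≤ W ∧ z.1 ∈ Z.basicOpen g := fun z =>
      hW₀.exists_basicOpen_le z (hVW z.2)
    choose g hg hzg using this
    obtain ⟨t, ht⟩ := hW.isCompact.elim_finite_subcover (fun z : W => ((Z.basicOpen (g z) : Z.Opens) : Set Z))
      (fun z => (Z.basicOpen (g z)).2) (fun z hz => Set.mem_iUnion.2 ⟨⟨z, hz⟩, hzg _⟩)
    refine ⟨t.image g, fun x hx => ?_, fun z hz => ?_⟩
    · obtain ⟨z, -, rfl⟩ := Finset.mem_image.1 hx; exact hg z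
    · obtain ⟨w, hw, hzw⟩ := Set.mem_iUnion₂.1 (ht hz)
      exact ⟨g w, Finset.mem_image_of_mem g hw, hzw⟩
  let L : Subalgebra Γ(Y, V₁) Γ(Z, W) := Algebra.adjoin Γ(Y, V₁) (r '' (s : Set Γ(Z, W₀)))
  haveI : Module.Finite Γ(Y, V₁) L := Module.Finite.iff_fg.2
    (fg_adjoin_of_finite (s.finite_toSet.image r) fun x _ => Algebra.IsIntegral.isIntegral x)
  let D : Subring Γ(Z, W₀) := L.toSubring.comap r
  let ρ : D →+* L :=
    { toFun := fun d => ⟨r d.1, d.2⟩
      map_one' := Subtype.ext (map_one r)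
      map_mul' := fun _ _ => Subtype.ext (map_mul r _ _)
      map_zero' := Subtype.ext (map_zero r)
      map_add' := fun _ _ => Subtype.ext (map_add r _ _) }
  have hsD : ∀ g ∈ s, g ∈ D := fun g hg => Algebra.subset_adjoin ⟨g, hg, rfl⟩
  let J : Ideal D := Ideal.span (Set.range fun g : s => (⟨g.1, hsD g.1 g.2⟩ : D))
  let py := hV₁.primeIdealOf ⟨y, hyV₁⟩
  let S : Set (PrimeSpectrum L) := PrimeSpectrum.comap (algebraMap Γ(Y, V₁) L) ⁻¹' {py}
  have hS : S.Finite := Algebra.QuasiFinite.finite_comap_preimage_singleton py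
  have hmem : ∀ (z : Z) (hz : z ∈ W) (g : Γ(Z, W₀)), z ∈ Z.basicOpen g ↔ r g ∉ (hW.primeIdealOf ⟨z, hz⟩).asIdeal := by
    intro z hz g
    have h0 : Z.basicOpen (r g) = W ⊓ Z.basicOpen g := Z.basicOpen_res g (homOfLE hVW).op
    have h1 : z ∈ Z.basicOpen g ↔ z ∈ Z.basicOpen (r g) := by
      rw [h0]; exact ⟨fun h => ⟨hz, h⟩, fun h => h.2⟩
    rw [h1]
    have h2 : hW.fromSpec (hW.primeIdealOf ⟨z, hz⟩) = z := hW.fromSpec_primeIdealOf _
    conv_lhs => rw [← h2]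
    show hW.primeIdealOf ⟨z, hz⟩ ∈ hW.fromSpec ⁻¹ᵁ Z.basicOpen (r g) ↔ _
    rw [hW.fromSpec_preimage_basicOpen]
    rfl
  have hJ : ∀ Q ∈ hS.toFinset, ¬ J ≤ (Q : PrimeSpectrum L).asIdeal.comap ρ := by
    intro Q hQ hle
    obtain ⟨P', hP'⟩ : Q ∈ Set.range (PrimeSpectrum.comap (algebraMap L Γ(Z, W))) := by
      haveI : Algebra.IsIntegral L Γ(Z, W) := Algebra.IsIntegral.tower_top (R := Γ(Y, V₁))
      obtain ⟨P', -, hP', hover⟩ := Ideal.exists_ideal_over_prime_of_isIntegral Q.asIdeal (⊥ : Ideal Γ(Z, W)) (by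
        intro x hx
        have : (x : Γ(Z, W)) = 0 := hx
        have : x = 0 := Subtype.ext this
        rw [this]; exact zero_mem _)
      exact ⟨⟨P', hP'⟩, PrimeSpectrum.ext hover⟩
    have hz : hW.fromSpec P' ∈ W := hW.range_fromSpec.le ⟨P', rfl⟩
    obtain ⟨g, hg, hzg⟩ := hsW _ hz
    rw [hmem _ hz g, show hW.primeIdealOf ⟨hW.fromSpec P', hz⟩ = P' from
      hW.fromSpec.isOpenEmbedding.injective (hW.fromSpec_primeIdealOf _)] at hzg
    have h3 : (⟨g, hsD g hg⟩ : D) ∈ J := Ideal.subset_span ⟨⟨g, hg⟩, rfl⟩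
    have h4 := hle h3
    rw [← hP'] at h4
    exact hzg h4
  obtain ⟨g, hgJ, hgS⟩ : ∃ g ∈ J, ∀ Q ∈ hS.toFinset, ρ g ∉ (Q : PrimeSpectrum L).asIdeal := by
    by_contra h
    push Not at h
    have hsub : (J : Set D) ⊆ ⋃ Q ∈ ((hS.toFinset : Finset (PrimeSpectrum L)) : Set (PrimeSpectrum L)),
        ((Q.asIdeal.comap ρ : Ideal D) : Set D) := fun g hg => by
      obtain ⟨Q, hQ, hgQ⟩ := h g hg
      exact Set.mem_biUnion hQ hgQ
    by_cases hne : hS.toFinset.Nonempty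
    · obtain ⟨Q₀, hQ₀⟩ := hne
      obtain ⟨Q, hQ, hle⟩ := (Ideal.subset_union_prime (f := fun Q : PrimeSpectrum L => Q.asIdeal.comap ρ)
        Q₀ Q₀ fun Q _ _ _ => inferInstance).1 hsub
      exact hJ Q hQ hle
    · obtain ⟨Q, hQ, -⟩ := h 0 (zero_mem _)
      exact hne ⟨Q, hQ⟩
  let W₁ := Z.basicOpen g.1
  have hW₁W : W₁ ≤ W := by
    intro z hz
    have hz₀ : z ∈ W₀ := Z.basicOpen_le g.1 hz
    have hq : ∀ x : Γ(Z, W₀), z ∈ Z.basicOpen x ↔ x ∉ (hW₀.primeIdealOf ⟨z, hz₀⟩).asIdeal := fun x => by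
      have h2 : hW₀.fromSpec (hW₀.primeIdealOf ⟨z, hz₀⟩) = z := hW₀.fromSpec_primeIdealOf _
      conv_lhs => rw [← h2]
      show hW₀.primeIdealOf ⟨z, hz₀⟩ ∈ hW₀.fromSpec ⁻¹ᵁ Z.basicOpen x ↔ _
      rw [hW₀.fromSpec_preimage_basicOpen]
      rfl
    by_contra hzW
    refine (hq g.1).1 hz ?_
    have hle : J ≤ (hW₀.primeIdealOf ⟨z, hz₀⟩).asIdeal.comap D.subtype := by
      rw [Ideal.span_le]
      rintro _ ⟨⟨x, hx⟩, rfl⟩
      by_contra hxP
      exact hzW (hs x hx ((hq x).2 hxP))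
    exact hle hgJ
  have hfib₁ : j ⁻¹' {y} ⊆ (W₁ : Set Z) := by
    intro z hzy
    have hzW : z ∈ W := by
      show j z ∈ V₁
      rw [show j z = y from hzy]; exact hyV₁
    refine (hmem z hzW g.1).2 fun hP => ?_
    let Q : PrimeSpectrum L := PrimeSpectrum.comap (algebraMap L Γ(Z, W)) (hW.primeIdealOf ⟨z, hzW⟩)
    have hQ : Q ∈ S := by
      show PrimeSpectrum.comap (algebraMap Γ(Y, V₁) L) Q = py
      have h1 := IsAffineOpen.comap_primeIdealOf_appLE V₁ hV₁ W hW (f := j) le_rfl hzW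
      rw [← Scheme.Hom.app_eq_appLE] at h1
      refine Eq.trans ?_ (show hV₁.primeIdealOf ⟨j z, hzW⟩ = py by
        congr 1; exact Subtype.ext hzy)
      exact h1
    exact hgS Q (hS.mem_toFinset.2 hQ) hP
  have hsurj : ∀ U : X.Opens, IsAffineOpen U → Function.Surjective (i.app U).hom := fun U hU => by
    haveI : IsClosedImmersion (i ∣_ U) := IsZariskiLocalAtTarget.restrict (P := @IsClosedImmersion) inferInstance _
    exact (CI2.surjective_app_of_closed i hU).2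
  obtain ⟨gt, hgt⟩ := hsurj U₀ hU₀ g.1
  let U₁ := X.basicOpen gt
  have hU₁ : i ⁻¹ᵁ U₁ = W₁ := by
    rw [Scheme.preimage_basicOpen]; exact congrArg Z.basicOpen hgt
  obtain ⟨b, hyb, hbW⟩ := shrink W₁ hfib₁ V₁ hV₁ hyV₁
  let c := (Z.presheaf.map (homOfLE (hU₁.le.trans hW₁W)).op).hom (j.app V₁ b)
  obtain ⟨ct, hct⟩ := hsurj U₁ (hU₀.basicOpen gt) c
  refine ⟨⟨X.basicOpen ct, Y.basicOpen b, (hU₀.basicOpen gt).basicOpen ct, hV₁.basicOpen b, ?_⟩, hyb⟩
  have e1 : i ⁻¹ᵁ X.basicOpen ct = Z.basicOpen c := by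
    rw [Scheme.preimage_basicOpen]; exact congrArg Z.basicOpen hct
  have e2 : Z.basicOpen c = (i ⁻¹ᵁ U₁) ⊓ Z.basicOpen (j.app V₁ b) := Z.basicOpen_res _ _
  rw [e1, e2, ← Scheme.preimage_basicOpen, hU₁]
  exact inf_eq_right.2 hbW

/-- The condition, for two closed immersions. -/
theorem cond_of_closed [IsClosedImmersion i] [IsClosedImmersion j] : Cond i j := by
  haveI : IsIntegralHom j := inferInstance
  refine cond_of_integral fun y => ?_
  by_cases h : ∃ z, j z = y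
  · obtain ⟨z, rfl⟩ := h
    obtain ⟨U, hU, hz, -⟩ := exists_isAffineOpen_mem_and_subset (X := X) (x := i z) (U := ⊤) trivial
    refine ⟨U, hU, fun z' hz' => ?_⟩
    rw [Set.mem_preimage, j.isClosedEmbedding.injective hz']
    exact hz
  · exact ⟨⊥, isAffineOpen_bot X, fun z hz => absurd ⟨z, hz⟩ h⟩

/-- The condition, for a square of affine morphisms over a base. -/
theorem cond_of_affine [IsClosedImmersion i] (w : i ≫ a = j ≫ b) [IsAffineHom a] [IsAffineHom b] : Cond i j := by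
  intro y
  obtain ⟨O, hO, hyO, -⟩ := exists_isAffineOpen_mem_and_subset (X := P) (x := b y) (U := ⊤) trivial
  refine ⟨⟨a ⁻¹ᵁ O, b ⁻¹ᵁ O, hO.preimage a, hO.preimage b, ?_⟩, hyO⟩
  rw [← Scheme.Hom.comp_preimage, w, Scheme.Hom.comp_preimage]

end Groth.Agent.Pinch4
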