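import Groth.Agent.Lib.Pinch4.Props
import Mathlib

/-!
# Morphisms out of a pinching
-/

set_option autoImplicit false
set_option linter.style.haveILetI false
universe u

set_option backward.isDefEq.respectTransparency.types false

open AlgebraicGeometry CategoryTheory CategoryTheory.Limits TopologicalSpace Groth.Agent.FerrandPush

namespace Groth.Agent.Pinch4

/-- The corner of a Ferrand square of algebras of finite type with `q` finite is of finite type. -/
theorem finiteType_corner {k A A' B B' : Type u} [CommRing k] [IsNoetherianRing k] [CommRing A] [CommRing A']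
    [CommRing B] [CommRing B'] [Algebra k B'] {p : A' →+* A} {q : B →+* A} {i : B' →+* B} {j : B' →+* A'}
    (H : IsFerrand p q i j) (hA' : (j.comp (algebraMap k B')).FiniteType) (hB : (i.comp (algebraMap k B')).FiniteType)
    (hq : q.IsIntegral) : Algebra.FiniteType k B' := by
  have hj : j.Finite := (isIntegral_j H hq).to_finite (RingHom.FiniteType.of_comp_finiteType hA')
  have hi : i.Finite := RingHom.Finite.of_surjective i H.surj_i
  letI : Algebra B' A' := j.toAlgebra
  letI : Algebra B' B := i.toAlgebra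
  haveI : Module.Finite B' A' := hj
  haveI : Module.Finite B' B := hi
  letI : Algebra k A' := (j.comp (algebraMap k B')).toAlgebra
  letI : Algebra k B := (i.comp (algebraMap k B')).toAlgebra
  haveI : IsScalarTower k B' A' := IsScalarTower.of_algebraMap_eq fun _ => rfl
  haveI : IsScalarTower k B' B := IsScalarTower.of_algebraMap_eq fun _ => rfl
  haveI hA'' : Algebra.FiniteType k A' := hA'
  haveI hB' : Algebra.FiniteType k B := hB
  haveI : IsScalarTower k B' (B × A') := IsScalarTower.of_algebraMap_eq fun _ => rfl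
  haveI : Algebra.FiniteType k (B × A') := inferInstance
  haveI : Module.Finite B' (B × A') := inferInstance
  exact ⟨fg_of_fg_of_fg k B' (B × A') Algebra.FiniteType.out Module.Finite.fg_top
    fun x y h => H.ext x y (congrArg Prod.fst h) (congrArg Prod.snd h)⟩

variable {X Y Z P S : Scheme.{u}} {i : Z ⟶ X} {j : Z ⟶ Y} {a : X ⟶ P} {b : Y ⟶ P}

/-- Pinchings of schemes of finite type over a noetherian base are of finite type. -/
theorem IsPinch.locallyOfFiniteType (H : IsPinch i j a b) [IsIntegralHom j] (r : P ⟶ S) [IsLocallyNoetherian S]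
    [LocallyOfFiniteType (a ≫ r)] [LocallyOfFiniteType (b ≫ r)] : LocallyOfFiniteType r := by
  refine (HasRingHomProperty.iff_exists_appLE (P := @LocallyOfFiniteType)
    (RingHom.finiteType_stableUnderComposition.stableUnderCompositionWithLocalizationAway
      RingHom.finiteType_holdsForLocalizationAway).1).2 ?_
  intro x
  obtain ⟨V, hV, hxV, -⟩ := exists_isAffineOpen_mem_and_subset (X := S) (x := r x) (U := ⊤) trivial
  obtain ⟨O, hxO, hOV, c⟩ := H.exists_chart_le x (r ⁻¹ᵁ V) hxV
  refine ⟨⟨V, hV⟩, ⟨O, c.affO⟩, hxO, hOV, ?_⟩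
  haveI : IsNoetherianRing Γ(S, V) := IsLocallyNoetherian.component_noetherian ⟨V, hV⟩
  letI := (r.appLE V O hOV).hom.toAlgebra
  have h1 : ((a ≫ r).appLE V (a ⁻¹ᵁ O) (a.preimage_mono hOV)).hom.FiniteType := (a ≫ r).finiteType_appLE hV c.affX _
  have h2 : ((b ≫ r).appLE V (b ⁻¹ᵁ O) (b.preimage_mono hOV)).hom.FiniteType := (b ≫ r).finiteType_appLE hV c.affY _
  rw [← Scheme.Hom.appLE_comp_appLE a r V O (a ⁻¹ᵁ O) hOV le_rfl, ← Scheme.Hom.app_eq_appLE] at h1
  rw [← Scheme.Hom.appLE_comp_appLE b r V O (b ⁻¹ᵁ O) hOV le_rfl, ← Scheme.Hom.app_eq_appLE] at h2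
  have heq : i ⁻¹ᵁ a ⁻¹ᵁ O = j ⁻¹ᵁ b ⁻¹ᵁ O := by rw [← Scheme.Hom.comp_preimage, H.w, Scheme.Hom.comp_preimage]
  have h3 : ∀ (W : Z.Opens) (e : W ≤ j ⁻¹ᵁ b ⁻¹ᵁ O), W = j ⁻¹ᵁ b ⁻¹ᵁ O → (j.appLE (b ⁻¹ᵁ O) W e).hom.IsIntegral := by
    rintro W e rfl
    rw [← Scheme.Hom.app_eq_appLE]
    exact IsIntegralHom.isIntegral_app _ _ c.affY
  exact finiteType_corner c.ferrand h1 h2 (h3 _ _ heq)

/-- Pinchings of separated schemes are separated. -/
theorem IsPinch.isSeparated (H : IsPinch i j a b) [IsClosedImmersion i] [IsIntegralHom j] (r : P ⟶ S)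
    [IsSeparated (a ≫ r)] [IsSeparated (b ≫ r)] : IsSeparated r := by
  haveI := H.isClosedImmersion_b
  haveI := H.isIntegralHom_a
  have key : ∀ {V : Scheme.{u}} (f : V ⟶ P) [IsIntegralHom f] [IsSeparated (f ≫ r)],
      IsClosed (Set.range (f ≫ pullback.diagonal r)) := by
    intro V f _ _
    have h1 : f ≫ pullback.diagonal r =
        pullback.diagonal (f ≫ r) ≫ pullback.map (f ≫ r) (f ≫ r) r r f f (𝟙 S) (Category.comp_id _) (Category.comp_id _) := by
      apply pullback.hom_ext
      · rw [Category.assoc, Category.assoc, pullback.diagonal_fst, Category.comp_id]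
        erw [pullback.lift_fst]
        exact (pullback.diagonal_fst_assoc _ _).symm
      · rw [Category.assoc, Category.assoc, pullback.diagonal_snd, Category.comp_id]
        erw [pullback.lift_snd]
        exact (pullback.diagonal_snd_assoc _ _).symm
    haveI : IsIntegralHom (pullback.map (f ≫ r) (f ≫ r) r r f f (𝟙 S) (Category.comp_id _) (Category.comp_id _)) :=
      MorphismProperty.pullbackMap (P := @IsIntegralHom) inferInstance inferInstance rfl rfl
    rw [h1, Scheme.Hom.comp_base, TopCat.coe_comp, Set.range_comp]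
    exact Scheme.Hom.isClosedMap _ _ (pullback.diagonal (f ≫ r)).isClosedEmbedding.isClosed_range
  refine ⟨IsClosedImmersion.of_isPreimmersion (pullback.diagonal r) ?_⟩
  have h : Set.range (pullback.diagonal r) = Set.range (a ≫ pullback.diagonal r) ∪ Set.range (b ≫ pullback.diagonal r) := by
    refine le_antisymm ?_ (Set.union_subset ?_ ?_)
    · rintro _ ⟨x, rfl⟩
      rcases H.covers x with ⟨z, rfl⟩ | ⟨v, rfl⟩
      · exact Or.inl ⟨z, rfl⟩
      · exact Or.inr ⟨v, rfl⟩
    · rintro _ ⟨z, rfl⟩; exact ⟨a z, rfl⟩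
    · rintro _ ⟨z, rfl⟩; exact ⟨b z, rfl⟩
  rw [h]
  exact (key a).union (key b)

/-- Pinchings of quasi-separated schemes are quasi-separated. -/
theorem IsPinch.quasiSeparated (H : IsPinch i j a b) [IsClosedImmersion i] [IsIntegralHom j] (r : P ⟶ S)
    [QuasiSeparated (a ≫ r)] [QuasiSeparated (b ≫ r)] : QuasiSeparated r := by
  haveI := H.isClosedImmersion_b
  haveI := H.isIntegralHom_a
  have key : ∀ {V : Scheme.{u}} (f : V ⟶ P) [IsIntegralHom f] [QuasiSeparated (f ≫ r)],
      QuasiCompact (f ≫ pullback.diagonal r) := by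
    intro V f _ _
    have h1 : f ≫ pullback.diagonal r =
        pullback.diagonal (f ≫ r) ≫ pullback.map (f ≫ r) (f ≫ r) r r f f (𝟙 S) (Category.comp_id _) (Category.comp_id _) := by
      apply pullback.hom_ext
      · rw [Category.assoc, Category.assoc, pullback.diagonal_fst, Category.comp_id]
        erw [pullback.lift_fst]
        exact (pullback.diagonal_fst_assoc _ _).symm
      · rw [Category.assoc, Category.assoc, pullback.diagonal_snd, Category.comp_id]
        erw [pullback.lift_snd]
        exact (pullback.diagonal_snd_assoc _ _).symm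
    haveI : IsIntegralHom (pullback.map (f ≫ r) (f ≫ r) r r f f (𝟙 S) (Category.comp_id _) (Category.comp_id _)) :=
      MorphismProperty.pullbackMap (P := @IsIntegralHom) inferInstance inferInstance rfl rfl
    rw [h1]
    infer_instance
  haveI := key a
  haveI := key b
  refine ⟨⟨fun W hW hWc => ?_⟩⟩
  have h : (pullback.diagonal r) ⁻¹' W = a '' ((a ≫ pullback.diagonal r) ⁻¹' W) ∪ b '' ((b ≫ pullback.diagonal r) ⁻¹' W) := by
    refine le_antisymm ?_ (Set.union_subset ?_ ?_)
    · intro x hx
      rcases H.covers x with ⟨z, rfl⟩ | ⟨v, rfl⟩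
      · exact Or.inl ⟨z, hx, rfl⟩
      · exact Or.inr ⟨v, hx, rfl⟩
    · rintro _ ⟨z, hz, rfl⟩; exact hz
    · rintro _ ⟨z, hz, rfl⟩; exact hz
  rw [h]
  exact ((QuasiCompact.isCompact_preimage (f := a ≫ pullback.diagonal r) W hW hWc).image a.continuous).union
    ((QuasiCompact.isCompact_preimage (f := b ≫ pullback.diagonal r) W hW hWc).image b.continuous)

end Groth.Agent.Pinch4
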