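import Groth.Agent.Lib.Pinch4.Props
import Mathlib

/-!
# Affine opens of a pinching
-/

set_option autoImplicit false
set_option linter.style.haveILetI false
universe u

set_option backward.isDefEq.respectTransparency.types false

open AlgebraicGeometry CategoryTheory CategoryTheory.Limits TopologicalSpace Groth.Agent.FerrandPush

namespace Groth.Agent.Pinch4

variable {X Y Z P : Scheme.{u}} {i : Z ⟶ X} {j : Z ⟶ Y} {a : X ⟶ P} {b : Y ⟶ P}

/-- Affine opens of the pieces agreeing on the glued locus give a chart of the pinching. -/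
theorem IsPinch.exists_affineChart [IsClosedImmersion i] (H : IsPinch i j a b) (p : Pair i j) :
    ∃ S : P.Opens, Chart i j a b S ∧ a ⁻¹ᵁ S = p.U ∧ b ⁻¹ᵁ S = p.V := by
  let f := p.isPinch.isPushout.desc (p.U.ι ≫ a) (p.V.ι ≫ b) (by
      rw [← Category.assoc, ← Category.assoc, Pair.ri, Pair.rj, Scheme.Hom.resLE_comp_ι, Scheme.Hom.resLE_comp_ι,
        Category.assoc, Category.assoc, H.w])
  have hfa : p.inX ≫ f = p.U.ι ≫ a := IsPushout.inl_desc _ _ _ _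
  have hfb : p.inY ≫ f = p.V.ι ≫ b := IsPushout.inr_desc _ _ _ _
  obtain ⟨hf, h1, h2⟩ := H.isOpenImmersion_desc p.isPinch p.U.ι p.V.ι (i ⁻¹ᵁ p.U).ι
    (Scheme.Hom.resLE_comp_ι i le_rfl).symm (Scheme.Hom.resLE_comp_ι j p.eq.le).symm
    (by rw [Scheme.Opens.opensRange_ι, Scheme.Opens.opensRange_ι])
    (by rw [Scheme.Opens.opensRange_ι, Scheme.Opens.opensRange_ι, p.eq])
    f hfa hfb
  refine ⟨f.opensRange, (chart_iff p.U.ι p.V.ι (i ⁻¹ᵁ p.U).ι f (Scheme.Hom.resLE_comp_ι i le_rfl).symm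
    (Scheme.Hom.resLE_comp_ι j p.eq.le).symm hfa.symm hfb.symm h1 h2
    (by rw [Scheme.Opens.opensRange_ι, Scheme.Opens.opensRange_ι]) H.w p.isPinch.w le_rfl).2 ?_,
    h1.trans (Scheme.Opens.opensRange_ι _), h2.trans (Scheme.Opens.opensRange_ι _)⟩
  rw [Scheme.Hom.preimage_opensRange]
  exact p.chart_top

/-- Affine opens of the pieces agreeing on the glued locus give an affine open of the pinching. -/
theorem IsPinch.exists_affineOpen [IsClosedImmersion i] (H : IsPinch i j a b) (p : Pair i j) :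
    ∃ S : P.Opens, IsAffineOpen S ∧ a ⁻¹ᵁ S = p.U ∧ b ⁻¹ᵁ S = p.V := by
  obtain ⟨S, c, h1, h2⟩ := H.exists_affineChart p
  exact ⟨S, c.affO, h1, h2⟩

/-- Lifting along a surjection, avoiding finitely many primes. -/
theorem exists_lift_avoid {A C : Type u} [CommRing A] [CommRing C] (π : A →+* C) (hπ : Function.Surjective π) (g : C) :
    ∀ F : Finset (PrimeSpectrum A), (∀ P ∈ F, RingHom.ker π ≤ P.asIdeal → ∀ a, π a = g → a ∉ P.asIdeal) →
      ∃ a, π a = g ∧ ∀ P ∈ F, a ∉ P.asIdeal := by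
  classical
  intro F
  induction F using Finset.strongInduction with
  | H F ih =>
    intro hF
    rcases F.eq_empty_or_nonempty with rfl | hne
    · obtain ⟨a, ha⟩ := hπ g
      exact ⟨a, ha, by simp⟩
    obtain ⟨P, hP⟩ := F.exists_minimal hne
    obtain ⟨a, ha, hav⟩ := ih (F.erase P) (F.erase_ssubset hP.1) fun Q hQ => hF Q (Finset.mem_of_mem_erase hQ)
    by_cases haP : a ∈ P.asIdeal
    · have hker : ¬RingHom.ker π ≤ P.asIdeal := fun h => hF P hP.1 h a ha haP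
      have hprod : ¬RingHom.ker π * ∏ Q ∈ F.erase P, (Q : PrimeSpectrum A).asIdeal ≤ P.asIdeal := fun h => by
        rcases P.isPrime.mul_le.1 h with h | h
        · exact hker h
        · obtain ⟨Q, hQ, hle⟩ := P.isPrime.prod_le.1 h
          exact Finset.ne_of_mem_erase hQ (le_antisymm hle (hP.2 (Finset.mem_of_mem_erase hQ) hle))
      obtain ⟨x, hx, hxP⟩ := SetLike.not_le_iff_exists.1 hprod
      refine ⟨a + x, by rw [map_add, ha, RingHom.mem_ker.1 (Ideal.mul_le_inf hx).1, add_zero], fun Q hQ => ?_⟩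
      by_cases hQP : Q = P
      · subst hQP
        exact fun h => hxP ((add_mem_cancel_left haP).1 h)
      · have hQ' := Finset.mem_erase.2 ⟨hQP, hQ⟩
        have hxQ : x ∈ Q.asIdeal :=
          (Ideal.prod_le_inf.trans (Finset.inf_le (f := fun Q : PrimeSpectrum A => Q.asIdeal) hQ'))
            (Ideal.mul_le_inf hx).2
        exact fun h => hav Q hQ' ((add_mem_cancel_right hxQ).1 h)
    · exact ⟨a, ha, fun Q hQ => if hQP : Q = P then hQP ▸ haP else hav Q (Finset.mem_erase.2 ⟨hQP, hQ⟩)⟩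

theorem mem_basicOpen_iff {V : Scheme.{u}} {U : V.Opens} (hU : IsAffineOpen U) (g : Γ(V, U)) {z : V} (hz : z ∈ U) :
    z ∈ V.basicOpen g ↔ g ∉ (hU.primeIdealOf ⟨z, hz⟩).asIdeal := by
  have h2 : hU.fromSpec (hU.primeIdealOf ⟨z, hz⟩) = z := hU.fromSpec_primeIdealOf _
  conv_lhs => rw [← h2]
  show hU.primeIdealOf ⟨z, hz⟩ ∈ hU.fromSpec ⁻¹ᵁ V.basicOpen g ↔ _
  rw [hU.fromSpec_preimage_basicOpen]
  rfl

/-- A finite subset of an open inside an affine open lies in a basic open inside it. -/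
theorem exists_basicOpen_finite {V : Scheme.{u}} {U W : V.Opens} (hU : IsAffineOpen U) {F : Set V} (hF : F.Finite)
    (hFW : F ⊆ W) (hFU : F ⊆ U) : ∃ g : Γ(V, U), V.basicOpen g ≤ W ∧ F ⊆ V.basicOpen g := by
  classical
  obtain ⟨J, hJ⟩ := (PrimeSpectrum.isClosed_iff_zeroLocus_ideal _).1 (hU.fromSpec ⁻¹ᵁ W).2.isClosed_compl
  let S : Finset (PrimeSpectrum Γ(V, U)) := (Finset.univ : Finset hF.toFinset).image fun z =>
    hU.primeIdealOf ⟨z.1, hFU (hF.mem_toFinset.1 z.2)⟩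
  have hS : ∀ Q ∈ S, ¬J ≤ Q.asIdeal := fun Q hQ hle => by
    obtain ⟨⟨z, hz⟩, -, rfl⟩ := Finset.mem_image.1 hQ
    have h1 : hU.primeIdealOf ⟨z, hFU (hF.mem_toFinset.1 hz)⟩ ∈ PrimeSpectrum.zeroLocus (J : Set Γ(V, U)) := hle
    rw [← hJ] at h1
    refine h1 ?_
    show hU.fromSpec _ ∈ W
    rw [hU.fromSpec_primeIdealOf]
    exact hFW (hF.mem_toFinset.1 hz)
  obtain ⟨g, hgJ, hg⟩ : ∃ g ∈ J, ∀ Q ∈ S, g ∉ Q.asIdeal := by
    by_contra h
    push Not at h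
    rcases S.eq_empty_or_nonempty with he | ⟨Q₀, hQ₀⟩
    · obtain ⟨Q, hQ, -⟩ := h 0 J.zero_mem
      simp [he] at hQ
    · obtain ⟨Q, hQ, hle⟩ := (Ideal.subset_union_prime (f := fun Q : PrimeSpectrum Γ(V, U) => Q.asIdeal)
        Q₀ Q₀ fun Q _ _ _ => Q.isPrime).1 (fun g hg => by
          obtain ⟨Q, hQ, hgQ⟩ := h g hg
          exact Set.mem_biUnion hQ hgQ : (J : Set Γ(V, U)) ⊆ ⋃ Q ∈ (S : Set (PrimeSpectrum Γ(V, U))), (Q.asIdeal : Set Γ(V, U)))
      exact hS Q hQ hle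
  refine ⟨g, fun z hz => ?_, fun z hz => ?_⟩
  · have hzU : z ∈ U := V.basicOpen_le g hz
    have h1 := (mem_basicOpen_iff hU g hzU).1 hz
    by_contra hzW
    have h2 : hU.primeIdealOf ⟨z, hzU⟩ ∈ PrimeSpectrum.zeroLocus (J : Set Γ(V, U)) := by
      rw [← hJ]
      show hU.fromSpec _ ∉ W
      rw [hU.fromSpec_primeIdealOf]
      exact hzW
    exact h1 (h2 hgJ)
  · exact (mem_basicOpen_iff hU g (hFU hz)).2
      (hg _ (Finset.mem_image.2 ⟨⟨z, hF.mem_toFinset.2 hz⟩, Finset.mem_univ _, rfl⟩))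

/-- Lifting a basic open of a closed subscheme, keeping a finite set. -/
theorem exists_lift_basicOpen {V W : Scheme.{u}} (f : W ⟶ V) [IsClosedImmersion f] {U : V.Opens} (hU : IsAffineOpen U)
    (g : Γ(W, f ⁻¹ᵁ U)) {E : Set V} (hE : E.Finite) (hEU : E ⊆ U) (hEg : f ⁻¹' E ⊆ W.basicOpen g) :
    ∃ a : Γ(V, U), f ⁻¹ᵁ V.basicOpen a = W.basicOpen g ∧ E ⊆ V.basicOpen a := by
  classical
  haveI : IsClosedImmersion (f ∣_ U) := IsZariskiLocalAtTarget.restrict (P := @IsClosedImmersion) inferInstance _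
  have hs := (CI2.surjective_app_of_closed f hU).2
  let S : Finset (PrimeSpectrum Γ(V, U)) := (Finset.univ : Finset hE.toFinset).image fun z =>
    hU.primeIdealOf ⟨z.1, hEU (hE.mem_toFinset.1 z.2)⟩
  obtain ⟨a, ha, hav⟩ := exists_lift_avoid (f.app U).hom hs g S (fun Q hQ hle a ha haQ => by
    obtain ⟨⟨x, hx⟩, -, rfl⟩ := Finset.mem_image.1 hQ
    obtain ⟨z, hz⟩ := CI2.exists_point_of_ker_le f hU _ hle
    rw [hU.fromSpec_primeIdealOf] at hz
    have hzg : z ∈ W.basicOpen g := hEg (by show f z ∈ E; rw [hz]; exact hE.mem_toFinset.1 hx)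
    rw [← ha, ← Scheme.preimage_basicOpen] at hzg
    have h1 : x ∈ V.basicOpen a := by rw [← show f z = x from hz]; exact hzg
    exact (mem_basicOpen_iff hU a _).1 h1 haQ)
  refine ⟨a, by rw [Scheme.preimage_basicOpen]; exact congrArg W.basicOpen ha, fun x hx => ?_⟩
  exact (mem_basicOpen_iff hU a (hEU hx)).2 (hav _ (Finset.mem_image.2 ⟨⟨x, hE.mem_toFinset.2 hx⟩, Finset.mem_univ _, rfl⟩))

/-- Finite sets lying in affine opens of both pieces lie in an affine open. -/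
theorem IsPinch.exists_affine_of_finite [IsClosedImmersion i] [IsClosedImmersion j] (H : IsPinch i j a b) {E : Set P}
    (hE : E.Finite) (h₁ : ∃ U : X.Opens, IsAffineOpen U ∧ a ⁻¹' E ⊆ U) (h₂ : ∃ V : Y.Opens, IsAffineOpen V ∧ b ⁻¹' E ⊆ V) :
    ∃ S : P.Opens, IsAffineOpen S ∧ E ⊆ S := by
  obtain ⟨U₁, hU₁, hE₁⟩ := h₁
  obtain ⟨U₂, hU₂, hE₂⟩ := h₂
  haveI := H.isClosedImmersion_b
  have H' : IsPinch j i b a := by
    obtain ⟨P', b', a', H'⟩ := exists_isPinch (cond_of_closed (i := j) (j := i))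
    exact isPinch_of_isPushout H' H.isPushout.flip
  haveI := H'.isClosedImmersion_b
  have hF₁ : (a ⁻¹' E).Finite := hE.preimage a.isClosedEmbedding.injective.injOn
  have hF₂ : (b ⁻¹' E).Finite := hE.preimage b.isClosedEmbedding.injective.injOn
  let F₀ : Set Z := i ⁻¹' (a ⁻¹' E)
  have hF₀ : F₀.Finite := hF₁.preimage i.isClosedEmbedding.injective.injOn
  have hwz : ∀ z, a (i z) = b (j z) := fun z => by rw [← Scheme.Hom.comp_apply, H.w, Scheme.Hom.comp_apply]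
  have hF₀' : j ⁻¹' (b ⁻¹' E) = F₀ := by
    ext z
    show b (j z) ∈ E ↔ a (i z) ∈ E
    rw [hwz]
  obtain ⟨g, hgW, hFg⟩ := exists_basicOpen_finite (hU₁.preimage i) (W := j ⁻¹ᵁ U₂) hF₀
    (fun z hz => hE₂ (show b (j z) ∈ E by rw [← hwz]; exact hz)) (fun z hz => hE₁ hz)
  obtain ⟨a₁, ha₁, hEa₁⟩ := exists_lift_basicOpen i hU₁ g hF₁ hE₁ hFg
  have hU₁' := hU₁.basicOpen a₁
  obtain ⟨g₂, hg₂W, hFg₂⟩ := exists_basicOpen_finite (hU₂.preimage j) (W := i ⁻¹ᵁ X.basicOpen a₁) hF₀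
    (by rw [ha₁]; exact hFg) (fun z hz => hgW (hFg hz))
  obtain ⟨a₂, ha₂, hEa₂⟩ := exists_lift_basicOpen j hU₂ g₂ hF₂ hE₂ (hF₀'.symm ▸ hFg₂)
  have hle : i ⁻¹ᵁ X.basicOpen a₁ ≤ j ⁻¹ᵁ U₂ := ha₁ ▸ hgW
  let g₃ := (Z.presheaf.map (homOfLE hle).op).hom g₂
  have e3 : Z.basicOpen g₃ = i ⁻¹ᵁ X.basicOpen a₁ ⊓ Z.basicOpen g₂ := Z.basicOpen_res _ _
  obtain ⟨a₃, ha₃, hEa₃⟩ := exists_lift_basicOpen i hU₁' g₃ hF₁ hEa₁
    (by rw [e3]; exact fun z hz => ⟨ha₁.symm ▸ hFg hz, hFg₂ hz⟩)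
  let p : Pair i j := ⟨X.basicOpen a₃, Y.basicOpen a₂, hU₁'.basicOpen a₃, hU₂.basicOpen a₂, by
    rw [ha₃, ha₂, e3, inf_eq_right.2 hg₂W]⟩
  obtain ⟨S, hS, hSa, hSb⟩ := H.exists_affineOpen p
  refine ⟨S, hS, fun x hx => ?_⟩
  rcases H.covers x with ⟨z, rfl⟩ | ⟨v, rfl⟩
  · have : z ∈ a ⁻¹ᵁ S := hSa ▸ hEa₃ hx
    exact this
  · have : v ∈ b ⁻¹ᵁ S := hSb ▸ hEa₂ hx
    exact this

end Groth.Agent.Pinch4
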