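import Groth.Agent.Lib.Pinch4.Morph
import Groth.Agent.Lib.Pinch4.FiniteSets
import Groth.Prelude.Def_W4c3jacimperfPinch
import Mathlib

/-!
# Pinchings in standard position over a base
-/

set_option autoImplicit false
set_option linter.style.haveILetI false
universe u

set_option backward.isDefEq.respectTransparency.types false

open AlgebraicGeometry CategoryTheory CategoryTheory.Limits TopologicalSpace

namespace Groth.Agent.Pinch4

variable {X Y T Z P : Scheme.{u}} {f : X ⟶ Y} {t : T ⟶ Y} {ξ : Z ⟶ T} {ι : Z ⟶ X}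

theorem preimage_eq_of_std (hsq : ι ≫ f = ξ ≫ t) {U : Y.Opens} {V : X.Opens} (hVU : V ≤ f ⁻¹ᵁ U)
    (h : ∀ z : Z, (ξ ≫ t).base z ∈ U → ι.base z ∈ V) : ι ⁻¹ᵁ V = ξ ⁻¹ᵁ t ⁻¹ᵁ U := by
  refine le_antisymm ((ι.preimage_mono hVU).trans ?_) fun z hz => h z hz
  rw [← Scheme.Hom.comp_preimage, hsq, Scheme.Hom.comp_preimage]

/-- The pair over an affine open of the base. -/
def stdPair [IsAffineHom t] (hsq : ι ≫ f = ξ ≫ t) {U : Y.Opens} (hU : IsAffineOpen U) {V : X.Opens}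
    (hV : IsAffineOpen V) (hVU : V ≤ f ⁻¹ᵁ U) (h : ∀ z : Z, (ξ ≫ t).base z ∈ U → ι.base z ∈ V) : Pair ι ξ :=
  ⟨V, t ⁻¹ᵁ U, hV, hU.preimage t, preimage_eq_of_std hsq hVU h⟩

/-- The condition, from standard position. -/
theorem cond_of_std [IsClosedImmersion ι] [IsAffineHom t] (hsq : ι ≫ f = ξ ≫ t)
    (hstd : ∀ y : Y, ∃ U : Y.Opens, IsAffineOpen U ∧ y ∈ U ∧ ∃ V : X.Opens, IsAffineOpen V ∧
      V ≤ f ⁻¹ᵁ U ∧ ∀ z : Z, (ξ ≫ t).base z ∈ U → ι.base z ∈ V) : Cond ι ξ := by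
  intro y
  obtain ⟨U, hU, hyU, V, hV, hVU, h⟩ := hstd (t y)
  exact ⟨stdPair hsq hU hV hVU h, hyU⟩

variable {S : Scheme.{u}} {i : Z ⟶ X} {j : Z ⟶ T} {a : X ⟶ P} {b : T ⟶ P}

/-- The pieces cover the pinching. -/
theorem IsPinch.surjective_desc (H : IsPinch i j a b) : Surjective (coprod.desc a b) := by
  refine ⟨fun x => ?_⟩
  rcases H.covers x with ⟨z, rfl⟩ | ⟨z, rfl⟩
  · exact ⟨(coprod.inl : X ⟶ X ⨿ T) z, by rw [← Scheme.Hom.comp_apply, coprod.inl_desc]⟩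
  · exact ⟨(coprod.inr : T ⟶ X ⨿ T) z, by rw [← Scheme.Hom.comp_apply, coprod.inr_desc]⟩

/-- Pinchings of universally closed schemes are universally closed. -/
theorem IsPinch.universallyClosed (H : IsPinch i j a b) (r : P ⟶ S) [h1 : UniversallyClosed (a ≫ r)]
    [h2 : UniversallyClosed (b ≫ r)] : UniversallyClosed r := by
  haveI := H.surjective_desc
  have h : coprod.desc a b ≫ r = coprod.map (a ≫ r) (b ≫ r) ≫ coprod.desc (𝟙 S) (𝟙 S) := by
    rw [coprod.desc_comp, coprod.map_desc, Category.comp_id, Category.comp_id]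
  haveI : UniversallyClosed (coprod.map (a ≫ r) (b ≫ r)) :=
    IsZariskiLocalAtTarget.coprodMap (P := @UniversallyClosed) _ _ h1 h2
  haveI : UniversallyClosed (coprod.desc a b ≫ r) := by rw [h]; infer_instance
  exact UniversallyClosed.of_comp_surjective (coprod.desc a b) r

/-- Pinchings of quasi-compact schemes are quasi-compact. -/
theorem IsPinch.quasiCompact (H : IsPinch i j a b) (r : P ⟶ S) [QuasiCompact (a ≫ r)] [QuasiCompact (b ≫ r)] :
    QuasiCompact r := by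
  refine ⟨fun W hW hWc => ?_⟩
  have h : r ⁻¹' W = a '' ((a ≫ r) ⁻¹' W) ∪ b '' ((b ≫ r) ⁻¹' W) := by
    refine le_antisymm ?_ (Set.union_subset ?_ ?_)
    · intro x hx
      rcases H.covers x with ⟨z, rfl⟩ | ⟨v, rfl⟩
      · exact Or.inl ⟨z, hx, rfl⟩
      · exact Or.inr ⟨v, hx, rfl⟩
    · rintro _ ⟨z, hz, rfl⟩; exact hz
    · rintro _ ⟨z, hz, rfl⟩; exact hz
  rw [h]
  exact ((QuasiCompact.isCompact_preimage (f := a ≫ r) W hW hWc).image a.continuous).union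
    ((QuasiCompact.isCompact_preimage (f := b ≫ r) W hW hWc).image b.continuous)

end Groth.Agent.Pinch4

namespace Groth.Agent.Pinch4

/-- Faithfully flat affine morphisms are injective on sections over affine opens. -/
theorem app_injective_of_flat_surjective {A B : Scheme.{u}} (f : A ⟶ B) [Flat f] [Surjective f] [IsAffineHom f]
    {W : B.Opens} (hW : IsAffineOpen W) : Function.Injective (f.app W).hom := by
  haveI : IsAffine W.toScheme := hW
  haveI : IsAffine (f ⁻¹ᵁ W).toScheme := hW.preimage f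
  haveI : Flat (f ∣_ W) := IsZariskiLocalAtTarget.restrict (P := @Flat) inferInstance _
  haveI : Surjective (f ∣_ W) := IsZariskiLocalAtTarget.restrict (P := @Surjective) inferInstance _
  have h := ((Flat.flat_and_surjective_iff_faithfullyFlat_of_isAffine (f ∣_ W)).1 ⟨inferInstance, inferInstance⟩).injective
  rw [morphismRestrict_appTop] at h
  have key : ∀ V : B.Opens, V = W.ι ''ᵁ ⊤ → Function.Injective (f.app V).hom := by
    rintro V rfl x y hxy
    exact h (congrArg (A.presheaf.map (eqToHom (image_morphismRestrict_preimage f W ⊤)).op).hom hxy)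
  exact key W (Scheme.Opens.ι_image_top W).symm

/-- Over an affine open of the base, a faithfully flat finite morphism with projective cokernel gives a split chart. -/
theorem split_of_coker {A B Y : Scheme.{u}} (f : A ⟶ B) [Flat f] [Surjective f] [IsAffineHom f] (t : B ⟶ Y)
    [IsAffineHom t] {U : Y.Opens} (hU : IsAffineOpen U)
    (hv : @Pinch.CokerProjective Γ(Y, U) Γ(A, (f ≫ t) ⁻¹ᵁ U) Γ(B, t ⁻¹ᵁ U) _ _ _
      ((f ≫ t).app U).hom.toAlgebra (f.app (t ⁻¹ᵁ U)).hom)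
    (z : A ⟶ Y) (hz : z = f ≫ t) (W : B.Opens) (W' : A.Opens) (e : W' ≤ f ⁻¹ᵁ W) (eU : W' ≤ z ⁻¹ᵁ U)
    (hW : W = t ⁻¹ᵁ U) (hW' : W' = f ⁻¹ᵁ W) [iB : Algebra Γ(Y, U) Γ(B, W)] [iA : Algebra Γ(Y, U) Γ(A, W')]
    (q : Γ(B, W) →ₐ[Γ(Y, U)] Γ(A, W')) (halg : algebraMap Γ(Y, U) Γ(A, W') = (z.appLE U W' eU).hom)
    (hq : q.toRingHom = (f.appLE W W' e).hom) :
    Function.Injective q ∧ Module.Projective Γ(Y, U) (Γ(A, W') ⧸ LinearMap.range q.toLinearMap) := by
  subst hz hW hW'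
  rw [← Scheme.Hom.app_eq_appLE] at hq
  refine ⟨fun x y h => app_injective_of_flat_surjective f (hU.preimage t) ?_, ?_⟩
  · exact (RingHom.congr_fun hq x).symm.trans (h.trans (RingHom.congr_fun hq y))
  have hA : @Eq (Algebra Γ(Y, U) Γ(A, f ⁻¹ᵁ t ⁻¹ᵁ U)) ((f ≫ t).app U).hom.toAlgebra iA := by
    refine Algebra.algebra_ext _ _ fun r => ?_
    refine Eq.trans ?_ (RingHom.congr_fun halg r).symm
    show ((f ≫ t).app U).hom r = _
    rw [Scheme.Hom.app_eq_appLE]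
    rfl
  replace hv : @Pinch.CokerProjective Γ(Y, U) Γ(A, f ⁻¹ᵁ t ⁻¹ᵁ U) Γ(B, t ⁻¹ᵁ U) _ _ _ iA (f.app (t ⁻¹ᵁ U)).hom := hA ▸ hv
  have hspan : Submodule.span Γ(Y, U) (Set.range (f.app (t ⁻¹ᵁ U)).hom) = LinearMap.range q.toLinearMap := by
    refine le_antisymm (Submodule.span_le.2 ?_) ?_
    · rintro _ ⟨x, rfl⟩
      exact ⟨x, RingHom.congr_fun hq x⟩
    · rintro _ ⟨x, rfl⟩
      exact Submodule.subset_span ⟨x, (RingHom.congr_fun hq x).symm⟩
  haveI : Module.Projective Γ(Y, U) (Γ(A, f ⁻¹ᵁ t ⁻¹ᵁ U) ⧸ Submodule.span Γ(Y, U) (Set.range (f.app (t ⁻¹ᵁ U)).hom)) := hv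
  exact Module.Projective.of_equiv (Submodule.quotEquivOfEq _ _ hspan)

end Groth.Agent.Pinch4
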