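import Groth.Agent.Lib.Pinch4.Props
import Mathlib.AlgebraicGeometry.ZariskisMainTheorem
import Mathlib.AlgebraicGeometry.QuasiAffine
import Mathlib

/-!
# Integral schemes over a field map into affine opens of quasi-affine schemes
-/

set_option autoImplicit false
set_option linter.style.haveILetI false
universe u

set_option backward.isDefEq.respectTransparency.types false

open AlgebraicGeometry CategoryTheory CategoryTheory.Limits TopologicalSpace

namespace Groth.Agent.Pinch4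

/-- A zero-dimensional integral scheme over a field lands in one affine open of a quasi-affine scheme. -/
theorem exists_affineOpen_range {W T : Scheme.{u}} [W.IsQuasiAffine] [IsAffine T] {k : Type u} [Field k]
    (φ : k →+* Γ(T, ⊤)) (hφ : φ.IsIntegral) (σ : T ⟶ W) : ∃ U : W.Opens, IsAffineOpen U ∧ ∀ t, σ t ∈ U := by
  classical
  let R := Γ(W, ⊤)
  let ψ : R →+* Γ(T, ⊤) := σ.appTop.hom
  let e := W.toSpecΓ
  have hloc : ∀ t : T, ∃ r : R, (PrimeSpectrum.basicOpen r : (Spec R).Opens) ≤ e.opensRange ∧ σ t ∈ W.basicOpen r := by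
    intro t
    obtain ⟨_, ⟨_, ⟨r, rfl⟩, rfl⟩, hxr, hrU⟩ := (PrimeSpectrum.isBasis_basic_opens
      (R := R)).exists_subset_of_mem_open (a := e (σ t)) (u := Set.range e) ⟨σ t, rfl⟩ e.opensRange.isOpen
    refine ⟨r, hrU, ?_⟩
    rw [← Scheme.toSpecΓ_preimage_basicOpen]
    exact hxr
  choose r hr hmem using hloc
  obtain ⟨s, hs⟩ := isCompact_univ.elim_finite_subcover (fun t => ((T.basicOpen (ψ (r t)) : T.Opens) : Set T))
    (fun t => (T.basicOpen (ψ (r t))).isOpen) (fun t _ => Set.mem_iUnion.2 ⟨t, by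
      exact (Scheme.preimage_basicOpen σ (r t)).le (hmem t)⟩)
  letI : Algebra k Γ(T, ⊤) := φ.toAlgebra
  haveI : Algebra.IsIntegral k Γ(T, ⊤) := ⟨hφ⟩
  let sr : Finset R := s.image r
  let L : Subalgebra k Γ(T, ⊤) := Algebra.adjoin k (ψ '' (sr : Set R))
  haveI : Module.Finite k L := Module.Finite.iff_fg.2
    (fg_adjoin_of_finite (sr.finite_toSet.image ψ) fun x _ => Algebra.IsIntegral.isIntegral x)
  haveI : IsArtinianRing L := IsArtinianRing.of_finite k L
  let D : Subring R := L.toSubring.comap ψ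
  let ρ : D →+* L :=
    { toFun := fun d => ⟨ψ d.1, d.2⟩
      map_one' := Subtype.ext (map_one ψ)
      map_mul' := fun _ _ => Subtype.ext (map_mul ψ _ _)
      map_zero' := Subtype.ext (map_zero ψ)
      map_add' := fun _ _ => Subtype.ext (map_add ψ _ _) }
  have hsD : ∀ x ∈ sr, x ∈ D := fun x hx => Algebra.subset_adjoin ⟨x, hx, rfl⟩
  let J : Ideal D := Ideal.span (Set.range fun x : sr => (⟨x.1, hsD x.1 x.2⟩ : D))
  have hT : IsAffineOpen (⊤ : T.Opens) := isAffineOpen_top T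
  have hJ : ∀ Q : PrimeSpectrum L, ¬ J ≤ Q.asIdeal.comap ρ := by
    intro Q hle
    haveI : Algebra.IsIntegral L Γ(T, ⊤) := Algebra.IsIntegral.tower_top (R := k)
    obtain ⟨P', -, hP', hover⟩ := Ideal.exists_ideal_over_prime_of_isIntegral Q.asIdeal (⊥ : Ideal Γ(T, ⊤)) (by
      intro x hx
      have hx1 : (x : Γ(T, ⊤)) = 0 := hx
      have hx2 : x = 0 := Subtype.ext hx1
      rw [hx2]; exact zero_mem _)
    let t := hT.fromSpec ⟨P', hP'⟩
    obtain ⟨t₀, ht₀, htb⟩ := Set.mem_iUnion₂.1 (hs (Set.mem_univ t))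
    have h1 : (⟨P', hP'⟩ : PrimeSpectrum Γ(T, ⊤)) ∈ hT.fromSpec ⁻¹ᵁ T.basicOpen (ψ (r t₀)) := htb
    rw [hT.fromSpec_preimage_basicOpen] at h1
    refine h1 ?_
    have h2 : (⟨r t₀, hsD _ (Finset.mem_image_of_mem r ht₀)⟩ : D) ∈ J :=
      Ideal.subset_span ⟨⟨_, Finset.mem_image_of_mem r ht₀⟩, rfl⟩
    have h3 := hle h2
    rw [← hover] at h3
    exact h3
  obtain ⟨g, hgJ, hg⟩ : ∃ g ∈ J, ∀ Q : PrimeSpectrum L, ρ g ∉ Q.asIdeal := by
    by_contra h
    push Not at h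
    cases nonempty_fintype (PrimeSpectrum L)
    have hsub : (J : Set D) ⊆ ⋃ Q ∈ ((Finset.univ : Finset (PrimeSpectrum L)) : Set (PrimeSpectrum L)),
        ((Q.asIdeal.comap ρ : Ideal D) : Set D) := fun g hg => by
      obtain ⟨Q, hgQ⟩ := h g hg
      exact Set.mem_biUnion (Finset.mem_univ Q) hgQ
    obtain ⟨Q₀, -⟩ := h 0 (zero_mem _)
    obtain ⟨Q, -, hle⟩ := (Ideal.subset_union_prime (f := fun Q : PrimeSpectrum L => Q.asIdeal.comap ρ)
      Q₀ Q₀ fun Q _ _ _ => inferInstance).1 hsub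
    exact hJ Q hle
  have hunit : IsUnit (ρ g) := by
    by_contra hn
    obtain ⟨m, hm, hgm⟩ := exists_max_ideal_of_mem_nonunits hn
    exact hg ⟨m, hm.isPrime⟩ hgm
  have hunit' : IsUnit (ψ g.1) := hunit.map L.val
  have hrange : (PrimeSpectrum.basicOpen g.1 : (Spec R).Opens) ≤ e.opensRange := by
    intro P hP
    have hle : ¬ J ≤ (P : PrimeSpectrum R).asIdeal.comap D.subtype := fun h => hP (h hgJ)
    rw [Ideal.span_le, Set.not_subset] at hle
    obtain ⟨_, ⟨⟨x, hx⟩, rfl⟩, hxP⟩ := hle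
    obtain ⟨t₀, -, rfl⟩ := Finset.mem_image.1 hx
    exact hr t₀ hxP
  refine ⟨W.basicOpen g.1, ?_, fun t => ?_⟩
  · rw [← Scheme.Hom.isAffineOpen_iff_of_isOpenImmersion e, ← Scheme.toSpecΓ_preimage_basicOpen,
      Scheme.Hom.image_preimage_eq_opensRange_inf]
    have heq : e.opensRange ⊓ (PrimeSpectrum.basicOpen g.1 : (Spec R).Opens) = PrimeSpectrum.basicOpen g.1 :=
      inf_eq_right.2 hrange
    erw [heq]
    exact IsAffineOpen.Spec_basicOpen g.1
  · have : T.basicOpen (ψ g.1) = ⊤ := T.basicOpen_of_isUnit hunit'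
    exact (Scheme.preimage_basicOpen σ g.1).ge (this.ge trivial)

/-- The condition passes to separated locally quasi-finite base changes. -/
theorem cond_of_lqf {X Y Z X' Y' Z' : Scheme.{u}} {i : Z ⟶ X} {j : Z ⟶ Y} {i' : Z' ⟶ X'} {j' : Z' ⟶ Y'} {f : X' ⟶ X}
    {g : Y' ⟶ Y} {h : Z' ⟶ Z} [IsClosedImmersion i'] [IsIntegralHom j'] [IsSeparated f] [LocallyQuasiFinite f]
    [LocallyOfFiniteType f] (hw : h ≫ i = i' ≫ f) (hw' : h ≫ j = j' ≫ g)
    (h3 : ∀ y : Y, ∃ U : X.Opens, IsAffineOpen U ∧ j ⁻¹' {y} ⊆ (i ⁻¹ᵁ U : Set Z)) : Cond i' j' := by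
  refine cond_of_integral fun y => ?_
  obtain ⟨U, hU, hfib⟩ := h3 (g y)
  let T := j'.fiber y
  haveI : IsIntegralHom (j'.fiberToSpecResidueField y) := MorphismProperty.pullback_snd _ _ inferInstance
  haveI : IsAffine T := isAffine_of_isAffineHom (j'.fiberToSpecResidueField y)
  let σ₀ : T ⟶ X' := j'.fiberι y ≫ i'
  have hrange : ∀ t, j' (j'.fiberι y t) = y := fun t => (j'.range_fiberι y).le ⟨t, rfl⟩
  have hσ : ∀ t, σ₀ t ∈ f ⁻¹ᵁ U := by
    intro t
    show f (i' (j'.fiberι y t)) ∈ U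
    rw [← Scheme.Hom.comp_apply, ← hw, Scheme.Hom.comp_apply]
    refine hfib ?_
    show j (h _) = g y
    rw [← Scheme.Hom.comp_apply, hw', Scheme.Hom.comp_apply, hrange]
  obtain ⟨W, hW, hσW, hWU⟩ : ∃ W : X'.Opens, IsCompact (W : Set X') ∧ (∀ t, σ₀ t ∈ W) ∧ W ≤ f ⁻¹ᵁ U := by
    have hloc : ∀ t, ∃ V : X'.Opens, IsAffineOpen V ∧ σ₀ t ∈ V ∧ V ≤ f ⁻¹ᵁ U := fun t =>
      exists_isAffineOpen_mem_and_subset (hσ t)
    choose V hV hmem hle using hloc
    obtain ⟨s, hs⟩ := (isCompact_range σ₀.continuous).elim_finite_subcover (fun t => (V t : Set X')) (fun t => (V t).isOpen)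
      (by rintro _ ⟨t, rfl⟩; exact Set.mem_iUnion.2 ⟨t, hmem t⟩)
    refine ⟨⨆ t ∈ s, V t, ?_, fun t => ?_, iSup₂_le fun t _ => hle t⟩
    · simp only [Opens.coe_iSup]
      exact s.isCompact_biUnion fun t _ => (hV t).isCompact
    · have := hs ⟨t, rfl⟩
      simpa [Opens.mem_iSup] using this
  haveI : IsAffine U.toScheme := hU
  haveI : CompactSpace W.toScheme := isCompact_iff_compactSpace.mp hW
  let q : W.toScheme ⟶ U.toScheme := f.resLE U W hWU
  have hq : q ≫ U.ι = W.ι ≫ f := Scheme.Hom.resLE_comp_ι _ _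
  haveI : IsSeparated (q ≫ U.ι) := by rw [hq]; infer_instance
  haveI : LocallyOfFiniteType (q ≫ U.ι) := by rw [hq]; infer_instance
  haveI : LocallyQuasiFinite (q ≫ U.ι) := by rw [hq]; infer_instance
  haveI : IsSeparated q := IsSeparated.of_comp q U.ι
  haveI : LocallyOfFiniteType q := locallyOfFiniteType_of_comp q U.ι
  haveI : LocallyQuasiFinite q := LocallyQuasiFinite.of_comp q U.ι
  haveI : QuasiCompact q := (quasiCompact_iff_compactSpace q).mpr ‹_›
  haveI : IsAffine q.normalization := isAffine_of_isAffineHom q.fromNormalization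
  haveI : W.toScheme.IsQuasiAffine := Scheme.IsQuasiAffine.of_isImmersion q.toNormalization
  let σ : T ⟶ W.toScheme := IsOpenImmersion.lift W.ι σ₀ (by
    rw [Scheme.Opens.range_ι]; rintro _ ⟨t, rfl⟩; exact hσW t)
  have hint : ((Scheme.ΓSpecIso (Y'.residueField y)).inv ≫ (j'.fiberToSpecResidueField y).appTop).hom.IsIntegral := by
    refine (RingHom.isIntegral_respectsIso.2 _ (Scheme.ΓSpecIso (Y'.residueField y)).symm.commRingCatIsoToRingEquiv) ?_
    exact IsIntegralHom.isIntegral_app _ ⊤ (isAffineOpen_top _)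
  obtain ⟨U', hU', hU''⟩ := exists_affineOpen_range (k := (Y'.residueField y : Type u)) _ hint σ
  refine ⟨W.ι ''ᵁ U', hU'.image_of_isOpenImmersion _, fun z hz => ?_⟩
  obtain ⟨t, rfl⟩ : z ∈ Set.range (j'.fiberι y) := (j'.range_fiberι y).ge hz
  refine ⟨σ t, hU'' t, ?_⟩
  show (σ ≫ W.ι) t = σ₀ t
  rw [IsOpenImmersion.lift_fac]

end Groth.Agent.Pinch4
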