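import Groth.Agent.Lib.Pinch4.CubeScheme
import Groth.Agent.Lib.Pinch4.FibreAffine
import Groth.Agent.Lib.Pinch4.FiniteSets
import Groth.Agent.Lib.MilnorSqH7.Alg
import Mathlib

/-!
# Finite etale covers of a pinching
-/

set_option autoImplicit false
set_option linter.style.haveILetI false
universe u

set_option backward.isDefEq.respectTransparency.types false

open AlgebraicGeometry CategoryTheory CategoryTheory.Limits TopologicalSpace Groth.Agent.FerrandPush TensorProduct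

namespace Groth.Agent.Pinch4

section ring

variable {A B C D A' B' C' D' : CommRingCat.{u}} {p : A ⟶ C} {q : D ⟶ C} {i : B ⟶ D} {j : B ⟶ A}
  {p' : A' ⟶ C'} {q' : D' ⟶ C'} {i' : B' ⟶ D'} {j' : B' ⟶ A'} {φA : A ⟶ A'} {φB : B ⟶ B'} {φC : C ⟶ C'} {φD : D ⟶ D'}

/-- The etale base change, as a tensor product. -/
theorem etale_tensor_of_isPushout {R S T P : CommRingCat.{u}} {ψ : R ⟶ S} {φ : R ⟶ T} {f : S ⟶ P} {g : T ⟶ P}
    (h : IsPushout ψ φ f g) (hf : f.hom.Etale) :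
    letI := ψ.hom.toAlgebra
    letI := φ.hom.toAlgebra
    Algebra.Etale S (S ⊗[R] T) := by
  letI := ψ.hom.toAlgebra
  letI := φ.hom.toAlgebra
  letI := f.hom.toAlgebra
  haveI : Algebra.Etale S P := hf
  obtain ⟨e, he, he'⟩ := exists_bij h
  let ea : S ⊗[R] T →ₐ[S] P :=
    { e with
      commutes' := fun s => by
        show e (s ⊗ₜ 1) = f s
        rw [he', map_one, mul_one] }
  let e' : S ⊗[R] T ≃ₐ[S] P := AlgEquiv.ofBijective ea he
  exact Algebra.Etale.of_equiv e'.symm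

/-- The corner is finite etale. -/
theorem finite_etale_cube (H : IsFerrand p.hom q.hom i.hom j.hom) (H' : IsFerrand p'.hom q'.hom i'.hom j'.hom)
    (hA : IsPushout p φA φC p') (hD : IsPushout q φD φC q') (hAB : j ≫ φA = φB ≫ j') (hBD : φB ≫ i' = i ≫ φD)
    (hq : q.hom.IsIntegral) (hfA : φA.hom.Finite) (hfD : φD.hom.Finite) (heA : φA.hom.Etale) (heD : φD.hom.Etale) :
    φB.hom.Finite ∧ φB.hom.Etale := by
  have hft := finiteType_cube H H' hA hD hAB hBD hfA.finiteType hfD.finiteType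
  have pA := isPushout_A H H' hA hD hAB hBD
  have pD := isPushout_D H H' hA hD hAB hBD
  have hint : φB.hom.IsIntegral := by
    intro x
    have h1 : (j'.hom.comp φB.hom).IsIntegral := by
      rw [← CommRingCat.hom_comp, ← hAB, CommRingCat.hom_comp]
      exact (isIntegral_j H hq).trans _ _ hfA.to_isIntegral
    have h2 : (i'.hom.comp φB.hom).IsIntegral := by
      rw [← CommRingCat.hom_comp, hBD, CommRingCat.hom_comp]
      exact (RingHom.isIntegral_of_surjective _ H.surj_i).trans _ _ hfD.to_isIntegral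
    letI := φB.hom.toAlgebra
    letI := (i'.hom.comp φB.hom).toAlgebra
    letI := (j'.hom.comp φB.hom).toAlgebra
    haveI : Algebra.IsIntegral B D' := ⟨h2⟩
    haveI : Algebra.IsIntegral B A' := ⟨h1⟩
    let ψ : B' →ₐ[B] D' × A' := AlgHom.prod (AlgHom.mk i'.hom fun _ => rfl) (AlgHom.mk j'.hom fun _ => rfl)
    have hψ : Function.Injective ψ := fun x y h => H'.ext x y (congrArg Prod.fst h) (congrArg Prod.snd h)
    exact (isIntegral_algHom_iff ψ hψ).1 ((Algebra.IsIntegral.isIntegral _).pair (Algebra.IsIntegral.isIntegral _))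
  refine ⟨hint.to_finite hft, ?_⟩
  letI := i.hom.toAlgebra
  letI := j.hom.toAlgebra
  letI := q.hom.toAlgebra
  letI := p.hom.toAlgebra
  letI : Algebra B C := (q.hom.comp i.hom).toAlgebra
  letI := φB.hom.toAlgebra
  haveI : IsScalarTower B D C := IsScalarTower.of_algebraMap_eq fun _ => rfl
  haveI : IsScalarTower B A C := IsScalarTower.of_algebraMap_eq fun x => H.comm x
  have hsq : EtMil.IsFibreSquare B D A C := ⟨H.surj, fun d a hda => by
    obtain ⟨x, hx1, hx2⟩ := H.exist d a hda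
    exact ⟨x, ⟨hx1, hx2⟩, fun y hy => H.ext y x (hy.1.trans hx1.symm) (hy.2.trans hx2.symm)⟩⟩
  haveI := etale_tensor_of_isPushout pA heA
  haveI := etale_tensor_of_isPushout pD heD
  exact MilnorH7.etale_of_pair (D := B') hsq

end ring

variable {X Y Z X' Y' Z' W W' : Scheme.{u}} {i : Z ⟶ X} {j : Z ⟶ Y} {b : X ⟶ W} {a : Y ⟶ W}
  {i' : Z' ⟶ X'} {j' : Z' ⟶ Y'} {b' : X' ⟶ W'} {a' : Y' ⟶ W'} {f : X' ⟶ X} {g : Y' ⟶ Y} {h : Z' ⟶ Z} {k : W' ⟶ W}

/-- A morphism of pinchings with cartesian finite etale faces is finite etale. -/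
theorem cube_finite_etale (H : IsPinch i j b a) (H' : IsPinch i' j' b' a') [IsClosedImmersion i] [IsClosedImmersion i']
    [IsIntegralHom j] (hX : IsPullback h i' i f) (hY : IsPullback h j' j g) (kb : b' ≫ k = f ≫ b) (ka : a' ≫ k = g ≫ a)
    [IsFinite f] [IsFinite g] [Etale f] [Etale g] : IsFinite k ∧ Etale k := by
  have key : ∀ x : W, ∃ O : W.Opens, x ∈ O ∧ IsAffineOpen O ∧ IsAffineOpen (k ⁻¹ᵁ O) ∧
      (k.app O).hom.Finite ∧ (k.app O).hom.Etale := by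
    intro x
    obtain ⟨O, hxO, c⟩ := H.cover x
    have heq : i' ⁻¹ᵁ f ⁻¹ᵁ b ⁻¹ᵁ O = j' ⁻¹ᵁ g ⁻¹ᵁ a ⁻¹ᵁ O := by
      rw [← Scheme.Hom.comp_preimage i' f, ← hX.w, ← Scheme.Hom.comp_preimage j' g, ← hY.w, Scheme.Hom.comp_preimage,
        Scheme.Hom.comp_preimage, ← Scheme.Hom.comp_preimage i b, H.w, Scheme.Hom.comp_preimage]
    obtain ⟨S, c', hSX, hSY⟩ := H'.exists_affineChart ⟨f ⁻¹ᵁ b ⁻¹ᵁ O, g ⁻¹ᵁ a ⁻¹ᵁ O, c.affX.preimage f, c.affY.preimage g, heq⟩
    have hS : S = k ⁻¹ᵁ O := by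
      refine H'.opens_ext ?_ ?_
      · rw [hSX, ← Scheme.Hom.comp_preimage b' k, kb, Scheme.Hom.comp_preimage]
      · rw [hSY, ← Scheme.Hom.comp_preimage a' k, ka, Scheme.Hom.comp_preimage]
    subst hS
    obtain ⟨eX, eY, eZ, pX, pY, hb, ha⟩ := cube_sections hX hY kb ka H'.w c c' le_rfl
    have heqO : i ⁻¹ᵁ b ⁻¹ᵁ O = j ⁻¹ᵁ a ⁻¹ᵁ O := by rw [← Scheme.Hom.comp_preimage, H.w, Scheme.Hom.comp_preimage]
    have hq : ∀ (V : Z.Opens) (e : V ≤ j ⁻¹ᵁ a ⁻¹ᵁ O), V = j ⁻¹ᵁ a ⁻¹ᵁ O → (j.appLE (a ⁻¹ᵁ O) V e).hom.IsIntegral := by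
      rintro V e rfl
      rw [← Scheme.Hom.app_eq_appLE]
      exact IsIntegralHom.isIntegral_app _ _ c.affY
    have hfin : ∀ {P Q : Scheme.{u}} (φ : P ⟶ Q) [IsFinite φ] (V : Q.Opens) (U : P.Opens) (e : U ≤ φ ⁻¹ᵁ V),
        U = φ ⁻¹ᵁ V → IsAffineOpen V → (φ.appLE V U e).hom.Finite := by
      intro P Q φ _ V U e hU hV
      subst hU
      rw [← Scheme.Hom.app_eq_appLE]
      exact IsFinite.finite_app (f := φ) V hV
    obtain ⟨hk1, hk2⟩ := finite_etale_cube c.ferrand c'.ferrand pX pY hb ha (hq _ c.le heqO)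
      (hfin f _ _ eX hSX c.affX) (hfin g _ _ eY hSY c.affY)
      (HasRingHomProperty.appLE @Etale f inferInstance ⟨_, c.affX⟩ ⟨_, c'.affX⟩ eX)
      (HasRingHomProperty.appLE @Etale g inferInstance ⟨_, c.affY⟩ ⟨_, c'.affY⟩ eY)
    rw [← Scheme.Hom.app_eq_appLE] at hk1 hk2
    exact ⟨O, hxO, c.affO, c'.affO, hk1, hk2⟩
  choose O hx hO hkO h1 h2 using key
  have hcov : ⨆ x, O x = ⊤ := top_le_iff.1 fun x _ => Opens.mem_iSup.2 ⟨x, hx x⟩
  constructor
  · rw [HasAffineProperty.iff_of_iSup_eq_top (P := @IsFinite) (fun x => ⟨O x, hO x⟩) hcov]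
    exact fun x => ⟨hkO x, appTop_restrict k (O x) (fun φ => φ.Finite) RingHom.finite_respectsIso (h1 x)⟩
  · rw [IsZariskiLocalAtTarget.iff_of_iSup_eq_top (P := @Etale) O hcov]
    intro x
    haveI : IsAffine (O x).toScheme := hO x
    haveI : IsAffine (k ⁻¹ᵁ O x).toScheme := hkO x
    exact (HasRingHomProperty.iff_of_isAffine (P := @Etale)).2
      (appTop_restrict k (O x) (fun φ => φ.Etale) RingHom.Etale.respectsIso (h2 x))

end Groth.Agent.Pinch4
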