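import Groth.Agent.Lib.Pinch4.Affine
import Mathlib

/-!
# Existence of pinchings
-/

set_option autoImplicit false
set_option linter.style.haveILetI false
universe u

set_option backward.isDefEq.respectTransparency.types false

open AlgebraicGeometry CategoryTheory CategoryTheory.Limits TopologicalSpace Groth.Agent.FerrandPush

namespace Groth.Agent.Pinch4

/-- Gluing morphisms given on opens and agreeing near every common point. -/
theorem exists_glue_opens {X T : Scheme.{u}} {ι : Type u} (U : ι → X.Opens) (hU : ⨆ p, U p = ⊤)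
    (δ : ∀ p, (U p).toScheme ⟶ T)
    (h : ∀ p q, ∀ x, x ∈ U p → x ∈ U q → ∃ W : X.Opens, x ∈ W ∧ ∃ (hp : W ≤ U p) (hq : W ≤ U q),
      X.homOfLE hp ≫ δ p = X.homOfLE hq ≫ δ q) :
    ∃ G : X ⟶ T, ∀ p, (U p).ι ≫ G = δ p := by
  have compat : ∀ p q, pullback.fst (U p).ι (U q).ι ≫ δ p = pullback.snd (U p).ι (U q).ι ≫ δ q := by
    intro p q
    refine Scheme.hom_ext_of_forall _ _ fun z => ?_
    let t := pullback.fst (U p).ι (U q).ι ≫ (U p).ι
    have hzq : t z ∈ U q := by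
      show (pullback.fst (U p).ι (U q).ι ≫ (U p).ι) z ∈ U q
      rw [pullback.condition]
      exact ((pullback.snd (U p).ι (U q).ι) z).2
    obtain ⟨W, hzW, hp, hq, hW⟩ := h p q (t z) ((pullback.fst (U p).ι (U q).ι) z).2 hzq
    let D := W ⊓ t.opensRange
    let l : D.toScheme ⟶ pullback (U p).ι (U q).ι := IsOpenImmersion.lift t D.ι (by
      rw [Scheme.Opens.range_ι]; exact inf_le_right)
    have hl : l ≫ t = D.ι := IsOpenImmersion.lift_fac _ _ _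
    haveI : IsOpenImmersion l := by
      haveI : IsOpenImmersion (l ≫ t) := by rw [hl]; infer_instance
      exact IsOpenImmersion.of_comp l t
    refine ⟨l.opensRange, ?_, ?_⟩
    · refine ⟨⟨t z, hzW, ⟨z, rfl⟩⟩, t.isOpenEmbedding.injective ?_⟩
      rw [← Scheme.Hom.comp_apply, hl]; rfl
    rw [← Scheme.Hom.isoOpensRange_inv_comp l, Category.assoc, Category.assoc]
    congr 1
    have hDW : D ≤ W := inf_le_left
    have e1 : l ≫ pullback.fst _ _ = X.homOfLE hDW ≫ X.homOfLE hp := by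
      rw [← cancel_mono (U p).ι, Category.assoc, Category.assoc, Scheme.homOfLE_ι, Scheme.homOfLE_ι]
      exact hl
    have e2 : l ≫ pullback.snd _ _ = X.homOfLE hDW ≫ X.homOfLE hq := by
      rw [← cancel_mono (U q).ι, Category.assoc, Category.assoc, Scheme.homOfLE_ι, Scheme.homOfLE_ι]
      exact (congrArg (l ≫ ·) pullback.condition.symm).trans hl
    rw [← Category.assoc, ← Category.assoc, e1, e2, Category.assoc, Category.assoc, hW]
  let 𝒰 := X.openCoverOfIsOpenCover U hU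
  let G := 𝒰.glueMorphisms δ (fun p q => compat p q)
  exact ⟨G, fun p => Scheme.Cover.ι_glueMorphisms 𝒰 δ _ p⟩

variable {X Y Z : Scheme.{u}} (i : Z ⟶ X) (j : Z ⟶ Y)

/-- Affine opens of the two pieces agreeing on the glued locus. -/
structure Pair : Type u where
  U : X.Opens
  V : Y.Opens
  affU : IsAffineOpen U
  affV : IsAffineOpen V
  eq : i ⁻¹ᵁ U = j ⁻¹ᵁ V

variable {i j}

instance : Preorder (Pair i j) := Preorder.lift fun p => (p.U, p.V)

namespace Pair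

variable [IsClosedImmersion i]

/-- The restriction of `i` to a pair. -/
noncomputable abbrev ri (p : Pair i j) : (i ⁻¹ᵁ p.U).toScheme ⟶ p.U.toScheme := i.resLE p.U (i ⁻¹ᵁ p.U) le_rfl

/-- The restriction of `j` to a pair. -/
noncomputable abbrev rj (p : Pair i j) : (i ⁻¹ᵁ p.U).toScheme ⟶ p.V.toScheme := j.resLE p.V (i ⁻¹ᵁ p.U) p.eq.le

theorem exists_pinch (p : Pair i j) : ∃ (P : Scheme.{u}) (a : p.U.toScheme ⟶ P) (b : p.V.toScheme ⟶ P),
    IsPinch p.ri p.rj a b ∧ Chart p.ri p.rj a b ⊤ := by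
  haveI : IsAffine p.U.toScheme := p.affU
  haveI : IsAffine p.V.toScheme := p.affV
  haveI : IsAffine (i ⁻¹ᵁ p.U).toScheme := p.affU.preimage i
  haveI : IsClosedImmersion p.ri := by
    rw [Pair.ri, Scheme.Hom.resLE_eq_morphismRestrict]
    exact IsZariskiLocalAtTarget.restrict (P := @IsClosedImmersion) inferInstance _
  exact exists_affine _ _

/-- The chosen affine pinching of a pair. -/
noncomputable def obj (p : Pair i j) : Scheme.{u} := p.exists_pinch.choose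

/-- The first inclusion. -/
noncomputable def inX (p : Pair i j) : p.U.toScheme ⟶ p.obj := p.exists_pinch.choose_spec.choose

/-- The second inclusion. -/
noncomputable def inY (p : Pair i j) : p.V.toScheme ⟶ p.obj := p.exists_pinch.choose_spec.choose_spec.choose

theorem isPinch (p : Pair i j) : IsPinch p.ri p.rj p.inX p.inY :=
  p.exists_pinch.choose_spec.choose_spec.choose_spec.1

theorem chart_top (p : Pair i j) : Chart p.ri p.rj p.inX p.inY ⊤ :=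
  p.exists_pinch.choose_spec.choose_spec.choose_spec.2

instance isAffine_obj (p : Pair i j) : IsAffine p.obj :=
  haveI : IsAffine (⊤ : p.obj.Opens).toScheme := p.chart_top.affO
  .of_isIso p.obj.topIso.inv

theorem desc_w {p q : Pair i j} (h : p ≤ q) :
    p.ri ≫ X.homOfLE h.1 ≫ q.inX = p.rj ≫ Y.homOfLE h.2 ≫ q.inY := by
  have h1 : p.ri ≫ X.homOfLE h.1 = Z.homOfLE (i.preimage_mono h.1) ≫ q.ri := by
    rw [← cancel_mono q.U.ι]
    simp [Pair.ri]
  have h2 : p.rj ≫ Y.homOfLE h.2 = Z.homOfLE (i.preimage_mono h.1) ≫ q.rj := by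
    rw [← cancel_mono q.V.ι]
    simp [Pair.rj]
  rw [← Category.assoc, h1, ← Category.assoc, h2, Category.assoc, Category.assoc, q.isPinch.w]

/-- The transition maps. -/
noncomputable def map {p q : Pair i j} (h : p ≤ q) : p.obj ⟶ q.obj :=
  p.isPinch.isPushout.desc (X.homOfLE h.1 ≫ q.inX) (Y.homOfLE h.2 ≫ q.inY) (desc_w h)

@[reassoc]
theorem inX_map {p q : Pair i j} (h : p ≤ q) : p.inX ≫ map h = X.homOfLE h.1 ≫ q.inX :=
  p.isPinch.isPushout.inl_desc _ _ _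

@[reassoc]
theorem inY_map {p q : Pair i j} (h : p ≤ q) : p.inY ≫ map h = Y.homOfLE h.2 ≫ q.inY :=
  p.isPinch.isPushout.inr_desc _ _ _

theorem map_spec {p q : Pair i j} (h : p ≤ q) : ∃ _ : IsOpenImmersion (map h),
    q.inX ⁻¹ᵁ (map h).opensRange = q.U.ι ⁻¹ᵁ p.U ∧ q.inY ⁻¹ᵁ (map h).opensRange = q.V.ι ⁻¹ᵁ p.V := by
  obtain ⟨ho, hX, hY⟩ := q.isPinch.isOpenImmersion_desc p.isPinch (X.homOfLE h.1) (Y.homOfLE h.2)
    (Z.homOfLE (i.preimage_mono h.1))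
    (by rw [← cancel_mono q.U.ι]; simp [Pair.ri]) (by rw [← cancel_mono q.V.ι]; simp [Pair.rj])
    (by
      rw [Scheme.opensRange_homOfLE, Scheme.opensRange_homOfLE, ← Scheme.Hom.comp_preimage, Pair.ri,
        Scheme.Hom.resLE_comp_ι, Scheme.Hom.comp_preimage])
    (by
      rw [Scheme.opensRange_homOfLE, Scheme.opensRange_homOfLE, ← Scheme.Hom.comp_preimage, Pair.rj,
        Scheme.Hom.resLE_comp_ι, Scheme.Hom.comp_preimage, p.eq])
    (map h) (inX_map h) (inY_map h)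
  rw [Scheme.opensRange_homOfLE] at hX hY
  exact ⟨ho, hX, hY⟩

instance {p q : Pair i j} (h : p ≤ q) : IsOpenImmersion (map h) := (map_spec h).1

variable (i j) in
/-- The diagram of affine pinchings. -/
noncomputable def diagram : Pair i j ⥤ Scheme.{u} where
  obj p := p.obj
  map f := map f.le
  map_id p := p.isPinch.hom_ext (by rw [inX_map]; simp) (by rw [inY_map]; simp)
  map_comp {p q r} f g := p.isPinch.hom_ext
    (by rw [inX_map, inX_map_assoc, inX_map, Scheme.homOfLE_homOfLE_assoc])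
    (by rw [inY_map, inY_map_assoc, inY_map, Scheme.homOfLE_homOfLE_assoc])

instance {p q : Pair i j} (f : p ⟶ q) : IsOpenImmersion ((diagram i j).map f) :=
  inferInstanceAs (IsOpenImmersion (map f.le))

/-- Affine charts of a pinched pair are sub-pairs. -/
theorem exists_sub (k : Pair i j) {O : k.obj.Opens} (c : Chart k.ri k.rj k.inX k.inY O) :
    ∃ (l : Pair i j) (h : l ≤ k), l.U = k.U.ι ''ᵁ (k.inX ⁻¹ᵁ O) ∧ l.V = k.V.ι ''ᵁ (k.inY ⁻¹ᵁ O) ∧
      (map h).opensRange = O := by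
  have heq : i ⁻¹ᵁ (k.U.ι ''ᵁ (k.inX ⁻¹ᵁ O)) = j ⁻¹ᵁ (k.V.ι ''ᵁ (k.inY ⁻¹ᵁ O)) := by
    have hw : ∀ z : (i ⁻¹ᵁ k.U).toScheme, k.inX (k.ri z) = k.inY (k.rj z) := fun z => by
      rw [← Scheme.Hom.comp_apply, k.isPinch.w, Scheme.Hom.comp_apply]
    have hri : ∀ z, k.U.ι (k.ri z) = i z.1 := fun z => by
      rw [← Scheme.Hom.comp_apply, Scheme.Hom.resLE_comp_ι]; rfl
    have hrj : ∀ z, k.V.ι (k.rj z) = j z.1 := fun z => by
      rw [← Scheme.Hom.comp_apply, Scheme.Hom.resLE_comp_ι]; rfl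
    ext z
    constructor
    · rintro ⟨x, hx, hxz⟩
      have hzU : z ∈ i ⁻¹ᵁ k.U := by show i z ∈ k.U; rw [← hxz]; exact x.2
      have hx' : k.ri ⟨z, hzU⟩ = x := k.U.ι.isOpenEmbedding.injective ((hri _).trans hxz.symm)
      refine ⟨k.rj ⟨z, hzU⟩, ?_, hrj _⟩
      show k.inY (k.rj ⟨z, hzU⟩) ∈ O
      rw [← hw, hx']; exact hx
    · rintro ⟨y, hy, hyz⟩
      have hzU : z ∈ i ⁻¹ᵁ k.U := by rw [k.eq]; show j z ∈ k.V; rw [← hyz]; exact y.2
      have hy' : k.rj ⟨z, hzU⟩ = y := k.V.ι.isOpenEmbedding.injective ((hrj _).trans hyz.symm)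
      refine ⟨k.ri ⟨z, hzU⟩, ?_, hri _⟩
      show k.inX (k.ri ⟨z, hzU⟩) ∈ O
      rw [hw, hy']; exact hy
  let l : Pair i j := ⟨_, _, c.affX.image_of_isOpenImmersion _, c.affY.image_of_isOpenImmersion _, heq⟩
  have h : l ≤ k := ⟨k.U.ι_image_le _, k.V.ι_image_le _⟩
  obtain ⟨_, hX, hY⟩ := map_spec h
  refine ⟨l, h, rfl, rfl, k.isPinch.opens_ext ?_ ?_⟩
  · rw [hX]; exact Scheme.Hom.preimage_image_eq _ _
  · rw [hY]; exact Scheme.Hom.preimage_image_eq _ _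

instance : ((diagram i j) ⋙ Scheme.forget).IsLocallyDirected where
  cond {p q k} f g xi xj hij := by
    obtain ⟨O, hxO, hO, c⟩ := k.isPinch.exists_chart_le (map f.le xi)
      ((map f.le).opensRange ⊓ (map g.le).opensRange) ⟨⟨xi, rfl⟩, ⟨xj, hij.symm⟩⟩
    obtain ⟨l, hl, hlU, hlV, hrange⟩ := k.exists_sub c
    obtain ⟨_, hpX, hpY⟩ := map_spec f.le
    obtain ⟨_, hqX, hqY⟩ := map_spec g.le
    have sub : ∀ {s : Pair i j} (e : s ≤ k), k.inX ⁻¹ᵁ (map e).opensRange = k.U.ι ⁻¹ᵁ s.U →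
        k.inY ⁻¹ᵁ (map e).opensRange = k.V.ι ⁻¹ᵁ s.V → O ≤ (map e).opensRange → l ≤ s := by
      intro s e eX eY hOs
      constructor
      · show l.U ≤ s.U
        rw [hlU]
        rintro _ ⟨x, hx, rfl⟩
        exact (eX ▸ (hOs hx : x ∈ k.inX ⁻¹ᵁ (map e).opensRange) : x ∈ k.U.ι ⁻¹ᵁ s.U)
      · show l.V ≤ s.V
        rw [hlV]
        rintro _ ⟨x, hx, rfl⟩
        exact (eY ▸ (hOs hx : x ∈ k.inY ⁻¹ᵁ (map e).opensRange) : x ∈ k.V.ι ⁻¹ᵁ s.V)
    have hlp : l ≤ p := sub f.le hpX hpY (hO.trans inf_le_left)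
    have hlq : l ≤ q := sub g.le hqX hqY (hO.trans inf_le_right)
    obtain ⟨y, hy⟩ : map f.le xi ∈ (map hl).opensRange := hrange.symm ▸ hxO
    have hcomp : ∀ {s : Pair i j} (e : l ≤ s) (e' : s ≤ k), map e' (map e y) = map f.le xi := fun e e' => by
      have := congrArg (fun φ => φ y) ((diagram i j).map_comp (homOfLE e) (homOfLE e'))
      exact (Scheme.Hom.comp_apply (map e) (map e') y).symm.trans (this.symm.trans hy)
    exact ⟨l, homOfLE hlp, homOfLE hlq, y, (map f.le).isOpenEmbedding.injective (hcomp hlp f.le),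
      (map g.le).isOpenEmbedding.injective ((hcomp hlq g.le).trans hij)⟩

end Pair

/-- The condition for the existence of the pinching. -/
def Cond (i : Z ⟶ X) (j : Z ⟶ Y) : Prop := ∀ y : Y, ∃ p : Pair i j, y ∈ p.V

open Pair in
/-- Existence of pinchings. -/
theorem exists_isPinch [IsClosedImmersion i] (hc : Cond i j) :
    ∃ (P : Scheme.{u}) (a : X ⟶ P) (b : Y ⟶ P), IsPinch i j a b := by
  have hcX : ∀ x : X, ∃ p : Pair i j, x ∈ p.U := by
    intro x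
    by_cases hx : x ∈ Set.range i
    · obtain ⟨z, rfl⟩ := hx
      obtain ⟨p, hp⟩ := hc (j z)
      exact ⟨p, (p.eq.symm ▸ hp : z ∈ i ⁻¹ᵁ p.U)⟩
    · obtain ⟨U, hU, hxU, hle⟩ := exists_isAffineOpen_mem_and_subset (X := X) (x := x)
        (U := ⟨(Set.range i)ᶜ, i.isClosedEmbedding.isClosed_range.isOpen_compl⟩) hx
      refine ⟨⟨U, ⊥, hU, isAffineOpen_bot Y, ?_⟩, hxU⟩
      ext z
      exact ⟨fun hz => absurd ⟨z, rfl⟩ (hle hz), fun hz => absurd hz (Set.notMem_empty _)⟩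
  have hcov : ⨆ p : Pair i j, p.U = ⊤ := top_le_iff.1 fun x _ => Opens.mem_iSup.2 (hcX x)
  have hcovY : ⨆ p : Pair i j, p.V = ⊤ := top_le_iff.1 fun y _ => Opens.mem_iSup.2 (hc y)
  let ι₀ : ∀ p : Pair i j, p.obj ⟶ colimit (diagram i j) := fun p => colimit.ι (diagram i j) p
  have hnat : ∀ {l p : Pair i j} (h : l ≤ p), Pair.map h ≫ ι₀ p = ι₀ l := fun h => colimit.w (diagram i j) (homOfLE h)
  have common : ∀ (p q : Pair i j) (S : p.obj.Opens), p.inX ⁻¹ᵁ S = p.U.ι ⁻¹ᵁ q.U → p.inY ⁻¹ᵁ S = p.V.ι ⁻¹ᵁ q.V →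
      ∀ t ∈ S, ∃ l : Pair i j, ∃ h : l ≤ p, l ≤ q ∧ t ∈ (Pair.map h).opensRange := by
    intro p q S hSX hSY t ht
    obtain ⟨O, htO, hOS, c⟩ := p.isPinch.exists_chart_le t S ht
    obtain ⟨l, hl, hlU, hlV, hrange⟩ := p.exists_sub c
    refine ⟨l, hl, ⟨?_, ?_⟩, hrange.symm ▸ htO⟩
    · show l.U ≤ q.U
      rw [hlU]
      rintro _ ⟨x, hx, rfl⟩
      exact (hSX ▸ (hOS hx : x ∈ p.inX ⁻¹ᵁ S) : x ∈ p.U.ι ⁻¹ᵁ q.U)
    · show l.V ≤ q.V
      rw [hlV]
      rintro _ ⟨x, hx, rfl⟩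
      exact (hSY ▸ (hOS hx : x ∈ p.inY ⁻¹ᵁ S) : x ∈ p.V.ι ⁻¹ᵁ q.V)
  have exS : ∀ p q : Pair i j, ∃ S : p.obj.Opens, p.inX ⁻¹ᵁ S = p.U.ι ⁻¹ᵁ q.U ∧ p.inY ⁻¹ᵁ S = p.V.ι ⁻¹ᵁ q.V := by
    intro p q
    refine p.isPinch.exists_open _ _ ?_
    rw [← Scheme.Hom.comp_preimage, ← Scheme.Hom.comp_preimage, Pair.ri, Pair.rj, Scheme.Hom.resLE_comp_ι,
      Scheme.Hom.resLE_comp_ι, Scheme.Hom.comp_preimage, Scheme.Hom.comp_preimage, q.eq]
  obtain ⟨a, ha⟩ := exists_glue_opens (fun p : Pair i j => p.U) hcov (fun p => p.inX ≫ ι₀ p) (fun p q x hp hq => by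
    obtain ⟨S, hSX, hSY⟩ := exS p q
    obtain ⟨l, hl, hlq, ht⟩ := common p q S hSX hSY (p.inX ⟨x, hp⟩) (by
      show (⟨x, hp⟩ : p.U.toScheme) ∈ p.inX ⁻¹ᵁ S
      rw [hSX]; exact hq)
    have hxl : x ∈ l.U := by
      obtain ⟨_, hX, -⟩ := map_spec hl
      have : (⟨x, hp⟩ : p.U.toScheme) ∈ p.inX ⁻¹ᵁ (Pair.map hl).opensRange := ht
      rw [hX] at this; exact this
    exact ⟨l.U, hxl, hl.1, hlq.1, by
      rw [← inX_map_assoc hl, ← inX_map_assoc hlq, hnat, hnat]⟩)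
  obtain ⟨b, hb⟩ := exists_glue_opens (fun p : Pair i j => p.V) hcovY (fun p => p.inY ≫ ι₀ p) (fun p q y hp hq => by
    obtain ⟨S, hSX, hSY⟩ := exS p q
    obtain ⟨l, hl, hlq, ht⟩ := common p q S hSX hSY (p.inY ⟨y, hp⟩) (by
      show (⟨y, hp⟩ : p.V.toScheme) ∈ p.inY ⁻¹ᵁ S
      rw [hSY]; exact hq)
    have hyl : y ∈ l.V := by
      obtain ⟨_, -, hY⟩ := map_spec hl
      have : (⟨y, hp⟩ : p.V.toScheme) ∈ p.inY ⁻¹ᵁ (Pair.map hl).opensRange := ht
      rw [hY] at this; exact this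
    exact ⟨l.V, hyl, hl.2, hlq.2, by
      rw [← inY_map_assoc hl, ← inY_map_assoc hlq, hnat, hnat]⟩)
  have w : i ≫ a = j ≫ b := by
    refine Scheme.hom_ext_of_forall _ _ fun z => ?_
    obtain ⟨p, hp⟩ := hcX (i z)
    refine ⟨i ⁻¹ᵁ p.U, hp, ?_⟩
    rw [← Scheme.Hom.resLE_comp_ι_assoc i le_rfl, ha, ← Scheme.Hom.resLE_comp_ι_assoc j p.eq.le, hb,
      ← Category.assoc, ← Category.assoc]
    exact congrArg (· ≫ ι₀ p) p.isPinch.w
  haveI : ∀ p : Pair i j, IsOpenImmersion (ι₀ p) := fun p => inferInstanceAs (IsOpenImmersion (colimit.ι (diagram i j) p))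
  have meet : ∀ (p q : Pair i j) (t : q.obj) (y : p.obj), ι₀ q t = ι₀ p y →
      ∃ (l : Pair i j) (hq : l ≤ q), l ≤ p ∧ t ∈ (Pair.map hq).opensRange := by
    intro p q t y h
    obtain ⟨l, fl, gl, z, hz, -⟩ := (Scheme.IsLocallyDirected.ι_eq_ι_iff (diagram i j)).1 h
    exact ⟨l, fl.le, gl.le, z, hz⟩
  have rX : ∀ p : Pair i j, a ⁻¹ᵁ (ι₀ p).opensRange = p.U.ι.opensRange := by
    intro p
    rw [Scheme.Opens.opensRange_ι]
    refine le_antisymm (fun x hx => ?_) fun x hx => ?_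
    · obtain ⟨q, hq⟩ := hcX x
      obtain ⟨y, hy⟩ := hx
      obtain ⟨l, hlq, hlp, ht⟩ := meet p q (q.inX ⟨x, hq⟩) y (by
        rw [← Scheme.Hom.comp_apply, ← ha q]; exact hy.symm)
      obtain ⟨_, hX, -⟩ := map_spec hlq
      have : (⟨x, hq⟩ : q.U.toScheme) ∈ q.inX ⁻¹ᵁ (Pair.map hlq).opensRange := ht
      rw [hX] at this
      exact hlp.1 this
    · refine ⟨p.inX ⟨x, hx⟩, ?_⟩
      rw [← Scheme.Hom.comp_apply, ← ha p]; rfl
  have rY : ∀ p : Pair i j, b ⁻¹ᵁ (ι₀ p).opensRange = p.V.ι.opensRange := by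
    intro p
    rw [Scheme.Opens.opensRange_ι]
    refine le_antisymm (fun x hx => ?_) fun x hx => ?_
    · obtain ⟨q, hq⟩ := hc x
      obtain ⟨y, hy⟩ := hx
      obtain ⟨l, hlq, hlp, ht⟩ := meet p q (q.inY ⟨x, hq⟩) y (by
        rw [← Scheme.Hom.comp_apply, ← hb q]; exact hy.symm)
      obtain ⟨_, -, hY⟩ := map_spec hlq
      have : (⟨x, hq⟩ : q.V.toScheme) ∈ q.inY ⁻¹ᵁ (Pair.map hlq).opensRange := ht
      rw [hY] at this
      exact hlp.2 this
    · refine ⟨p.inY ⟨x, hx⟩, ?_⟩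
      rw [← Scheme.Hom.comp_apply, ← hb p]; rfl
  refine ⟨colimit (diagram i j), a, b, w, fun x => ?_⟩
  obtain ⟨p, y, rfl⟩ := Scheme.IsLocallyDirected.ι_jointly_surjective (diagram i j) x
  exact exists_chart_of_openImmersion p.U.ι p.V.ι (i ⁻¹ᵁ p.U).ι (ι₀ p)
    (Scheme.Hom.resLE_comp_ι i le_rfl).symm (Scheme.Hom.resLE_comp_ι j p.eq.le).symm (ha p) (hb p)
    (rX p) (rY p) (by rw [Scheme.Opens.opensRange_ι, Scheme.Opens.opensRange_ι]) w p.isPinch.w p.isPinch y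

end Groth.Agent.Pinch4
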