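import Groth.Agent.Lib.Pinch4.Transport
import Mathlib

/-!
# Affine pinchings, points and open subsets
-/

set_option autoImplicit false
set_option linter.style.haveILetI false
universe u

set_option backward.isDefEq.respectTransparency.types false

open AlgebraicGeometry CategoryTheory CategoryTheory.Limits TopologicalSpace Groth.Agent.FerrandPush

namespace Groth.Agent.Pinch4

/-- The affine pinching. -/
theorem exists_affine {X Y Z : Scheme.{u}} [IsAffine X] [IsAffine Y] [IsAffine Z] (i : Z ⟶ X) [IsClosedImmersion i]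
    (j : Z ⟶ Y) : ∃ (P : Scheme.{u}) (a : X ⟶ P) (b : Y ⟶ P), IsPinch i j a b ∧ Chart i j a b ⊤ := by
  let q₁ : Γ(Y, ⊤) × Γ(X, ⊤) →+* Γ(Z, ⊤) := j.appTop.hom.comp (RingHom.fst _ _)
  let q₂ : Γ(Y, ⊤) × Γ(X, ⊤) →+* Γ(Z, ⊤) := i.appTop.hom.comp (RingHom.snd _ _)
  let R := q₁.eqLocus q₂
  let i₀ : R →+* Γ(Y, ⊤) := (RingHom.fst _ _).comp R.subtype
  let j₀ : R →+* Γ(X, ⊤) := (RingHom.snd _ _).comp R.subtype
  have H : IsFerrand i.appTop.hom j.appTop.hom i₀ j₀ :=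
    { surj := (IsClosedImmersion.isAffine_surjective_of_isAffine i).2
      comm := fun x => x.2
      exist := fun y x h => ⟨⟨(y, x), h⟩, rfl, rfl⟩
      ext := fun x y h1 h2 => Subtype.ext (Prod.ext h1 h2) }
  let a : X ⟶ Spec (CommRingCat.of R) := X.toSpecΓ ≫ sp j₀
  let b : Y ⟶ Spec (CommRingCat.of R) := Y.toSpecΓ ≫ sp i₀
  have w : i ≫ a = j ≫ b := by
    simp only [a, b, ← Category.assoc, Scheme.toSpecΓ_naturality]
    simp only [Category.assoc]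
    refine congrArg (Z.toSpecΓ ≫ ·) ?_
    show Spec.map _ ≫ sp j₀ = Spec.map _ ≫ sp i₀
    rw [← sp_hom, ← sp_hom, sp_comp, sp_comp]
    exact congrArg (fun k => sp k) (RingHom.ext fun x => (H.comm x).symm)
  suffices hc : Chart i j a b ⊤ from ⟨_, a, b, ⟨w, fun x => ⟨⊤, trivial, hc⟩⟩, hc⟩
  refine ⟨isAffineOpen_top _, isAffineOpen_top X, isAffineOpen_top Y, isAffineOpen_top Z, le_rfl, ?_⟩
  refine congr H (RingHom.id _) (RingHom.id _) (RingHom.id _) (Scheme.ΓSpecIso (CommRingCat.of R)).inv.hom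
    Function.bijective_id Function.bijective_id Function.bijective_id (ConcreteCategory.bijective_of_isIso _) rfl ?_ ?_ ?_
  · show (j.appLE ⊤ ⊤ _).hom.comp _ = _
    rw [show j.appLE ⊤ ⊤ le_rfl = j.appTop from (Scheme.Hom.app_eq_appLE (f := j) (U := ⊤)).symm]
    rfl
  · show CommRingCat.Hom.hom ((Scheme.ΓSpecIso (CommRingCat.of R)).inv ≫ b.appTop) = i₀
    have : (Scheme.ΓSpecIso (CommRingCat.of R)).inv ≫ b.appTop = CommRingCat.ofHom i₀ := by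
      rw [Iso.inv_comp_eq, Scheme.Hom.comp_appTop, Scheme.toSpecΓ_appTop, Scheme.ΓSpecIso_naturality]
    rw [this]
    rfl
  · show CommRingCat.Hom.hom ((Scheme.ΓSpecIso (CommRingCat.of R)).inv ≫ a.appTop) = j₀
    have : (Scheme.ΓSpecIso (CommRingCat.of R)).inv ≫ a.appTop = CommRingCat.ofHom j₀ := by
      rw [Iso.inv_comp_eq, Scheme.Hom.comp_appTop, Scheme.toSpecΓ_appTop, Scheme.ΓSpecIso_naturality]
    rw [this]
    rfl

variable {X Y Z P : Scheme.{u}} {i : Z ⟶ X} {j : Z ⟶ Y} {a : X ⟶ P} {b : Y ⟶ P}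

/-- The two pieces cover the pinching. -/
theorem IsPinch.covers (H : IsPinch i j a b) (x : P) : (∃ z, a z = x) ∨ ∃ v, b v = x := by
  obtain ⟨O, hx, c⟩ := H.cover x
  let Q := c.affO.primeIdealOf ⟨x, hx⟩
  have hQ : c.affO.fromSpec Q = x := c.affO.fromSpec_primeIdealOf _
  have ha := c.sq_a
  rw [Category.assoc, IsAffineOpen.isoSpec_inv_ι] at ha
  have hb := c.sq_b
  rw [Category.assoc, IsAffineOpen.isoSpec_inv_ι] at hb
  rcases c.ferrand.covers Q with ⟨R, hR⟩ | ⟨R, hR⟩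
  · exact Or.inr ⟨c.affY.fromSpec R, by
      rw [← Scheme.Hom.comp_apply, ← hb, Scheme.Hom.comp_apply]
      exact (congrArg c.affO.fromSpec hR).trans hQ⟩
  · exact Or.inl ⟨c.affX.fromSpec R, by
      rw [← Scheme.Hom.comp_apply, ← ha, Scheme.Hom.comp_apply]
      exact (congrArg c.affO.fromSpec hR).trans hQ⟩

/-- An open of `P` is determined by its preimages. -/
theorem IsPinch.opens_le (H : IsPinch i j a b) {S S' : P.Opens} (ha : a ⁻¹ᵁ S ≤ a ⁻¹ᵁ S') (hb : b ⁻¹ᵁ S ≤ b ⁻¹ᵁ S') :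
    S ≤ S' := by
  intro x hx
  rcases H.covers x with ⟨z, rfl⟩ | ⟨v, rfl⟩
  · exact ha hx
  · exact hb hx

theorem IsPinch.opens_ext (H : IsPinch i j a b) {S S' : P.Opens} (ha : a ⁻¹ᵁ S = a ⁻¹ᵁ S') (hb : b ⁻¹ᵁ S = b ⁻¹ᵁ S') :
    S = S' :=
  le_antisymm (H.opens_le ha.le hb.le) (H.opens_le ha.ge hb.ge)

/-- Opens of the two pieces agreeing on the glued locus come from an open of the pinching. -/
theorem IsPinch.exists_open (H : IsPinch i j a b) (U : X.Opens) (V : Y.Opens) (hUV : i ⁻¹ᵁ U = j ⁻¹ᵁ V) :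
    ∃ S : P.Opens, a ⁻¹ᵁ S = U ∧ b ⁻¹ᵁ S = V := by
  let S : P.Opens := ⨆ (S : P.Opens) (_ : a ⁻¹ᵁ S ≤ U ∧ b ⁻¹ᵁ S ≤ V), S
  have key : ∀ x : P, ((∃ z ∈ U, a z = x) ∨ ∃ v ∈ V, b v = x) → x ∈ S := by
    intro x hcase
    obtain ⟨O, hx, c⟩ := H.cover x
    let U₁ : Opens (PrimeSpectrum Γ(X, a ⁻¹ᵁ O)) := c.affX.fromSpec ⁻¹ᵁ U
    let V₁ : Opens (PrimeSpectrum Γ(Y, b ⁻¹ᵁ O)) := c.affY.fromSpec ⁻¹ᵁ V
    have ha := c.sq_a
    rw [Category.assoc, IsAffineOpen.isoSpec_inv_ι] at ha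
    have hb := c.sq_b
    rw [Category.assoc, IsAffineOpen.isoSpec_inv_ι] at hb
    have hi := IsAffineOpen.SpecMap_appLE_fromSpec i c.affX c.affZ le_rfl
    rw [← Scheme.Hom.app_eq_appLE] at hi
    have hj := IsAffineOpen.SpecMap_appLE_fromSpec j c.affY c.affZ c.le
    have hagree : ∀ T, PrimeSpectrum.comap (i.app (a ⁻¹ᵁ O)).hom T ∈ U₁ ↔
        PrimeSpectrum.comap (j.appLE (b ⁻¹ᵁ O) (i ⁻¹ᵁ a ⁻¹ᵁ O) c.le).hom T ∈ V₁ := by
      intro T
      show (Spec.map (i.app (a ⁻¹ᵁ O)) ≫ c.affX.fromSpec) T ∈ U ↔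
        (Spec.map (j.appLE (b ⁻¹ᵁ O) (i ⁻¹ᵁ a ⁻¹ᵁ O) c.le) ≫ c.affY.fromSpec) T ∈ V
      rw [hi, hj]
      show c.affZ.fromSpec T ∈ i ⁻¹ᵁ U ↔ c.affZ.fromSpec T ∈ j ⁻¹ᵁ V
      rw [hUV]
    let Q₀ := c.affO.primeIdealOf ⟨x, hx⟩
    have hQ₀ : c.affO.fromSpec Q₀ = x := c.affO.fromSpec_primeIdealOf _
    have hcase' : (∃ Q ∈ U₁, PrimeSpectrum.comap (a.app O).hom Q = Q₀) ∨
        ∃ R ∈ V₁, PrimeSpectrum.comap (b.app O).hom R = Q₀ := by
      rcases hcase with ⟨z, hzU, hz⟩ | ⟨v, hvV, hv⟩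
      · have hzO : z ∈ a ⁻¹ᵁ O := by show a z ∈ O; rw [hz]; exact hx
        have h1 : c.affX.fromSpec (c.affX.primeIdealOf ⟨z, hzO⟩) = z := c.affX.fromSpec_primeIdealOf _
        refine Or.inl ⟨c.affX.primeIdealOf ⟨z, hzO⟩, by show c.affX.fromSpec _ ∈ U; rw [h1]; exact hzU, ?_⟩
        apply c.affO.fromSpec.isOpenEmbedding.injective
        refine Eq.trans ?_ hQ₀.symm
        show (sp (a.app O).hom ≫ c.affO.fromSpec) _ = x
        rw [ha, Scheme.Hom.comp_apply, h1, hz]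
      · have hvO : v ∈ b ⁻¹ᵁ O := by show b v ∈ O; rw [hv]; exact hx
        have h1 : c.affY.fromSpec (c.affY.primeIdealOf ⟨v, hvO⟩) = v := c.affY.fromSpec_primeIdealOf _
        refine Or.inr ⟨c.affY.primeIdealOf ⟨v, hvO⟩, by show c.affY.fromSpec _ ∈ V; rw [h1]; exact hvV, ?_⟩
        apply c.affO.fromSpec.isOpenEmbedding.injective
        refine Eq.trans ?_ hQ₀.symm
        show (sp (b.app O).hom ≫ c.affO.fromSpec) _ = x
        rw [hb, Scheme.Hom.comp_apply, h1, hv]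
    have hinj := PrimeSpectrum.comap_injective_of_surjective (b.app O).hom c.ferrand.surj_i
    have hA : ∀ Q, PrimeSpectrum.comap (a.app O).hom Q = Q₀ → Q ∈ U₁ := by
      intro Q hQ
      rcases hcase' with ⟨Q₁, hQ₁, e⟩ | ⟨R₁, hR₁, e⟩
      · by_cases h1 : RingHom.ker (i.app (a ⁻¹ᵁ O)).hom ≤ Q₁.asIdeal
        · by_cases h2 : RingHom.ker (i.app (a ⁻¹ᵁ O)).hom ≤ Q.asIdeal
          · obtain ⟨T₁, hT₁⟩ : Q₁ ∈ Set.range (PrimeSpectrum.comap (i.app (a ⁻¹ᵁ O)).hom) := by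
              rw [range_comap_of_surjective _ _ c.ferrand.surj]; exact h1
            obtain ⟨T, hT⟩ : Q ∈ Set.range (PrimeSpectrum.comap (i.app (a ⁻¹ᵁ O)).hom) := by
              rw [range_comap_of_surjective _ _ c.ferrand.surj]; exact h2
            have hb' : ∀ S, PrimeSpectrum.comap (b.app O).hom (PrimeSpectrum.comap (j.appLE (b ⁻¹ᵁ O) _ c.le).hom S) =
                PrimeSpectrum.comap (a.app O).hom (PrimeSpectrum.comap (i.app (a ⁻¹ᵁ O)).hom S) := fun S => by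
              rw [← PrimeSpectrum.comap_comp_apply, ← PrimeSpectrum.comap_comp_apply]
              exact congrArg (fun k => PrimeSpectrum.comap k S) (RingHom.ext c.ferrand.comm)
            rw [← hT₁, hagree] at hQ₁
            rw [← hT, hagree]
            have := hinj ((hb' T).trans ((congrArg _ hT).trans (hQ.trans (e.symm.trans
              ((congrArg _ hT₁).symm.trans (hb' T₁).symm)))))
            rwa [this]
          · rw [eq_of_comap_eq c.ferrand h2 (hQ.trans e.symm)]; exact hQ₁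
        · rw [← eq_of_comap_eq c.ferrand h1 (e.trans hQ.symm)]; exact hQ₁
      · obtain ⟨T, rfl, rfl⟩ := exists_of_comap_eq c.ferrand (hQ.trans e.symm)
        exact (hagree T).2 hR₁
    have hB : ∀ R, PrimeSpectrum.comap (b.app O).hom R = Q₀ → R ∈ V₁ := by
      intro R hR
      rcases hcase' with ⟨Q₁, hQ₁, e⟩ | ⟨R₁, hR₁, e⟩
      · obtain ⟨T, rfl, rfl⟩ := exists_of_comap_eq c.ferrand (e.trans hR.symm)
        exact (hagree T).1 hQ₁
      · rw [hinj (hR.trans e.symm)]; exact hR₁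
    obtain ⟨h, hQh, hhU, hhV⟩ := exists_basicOpen c.ferrand U₁ V₁ hagree Q₀ hA hB
    have hxh : x ∈ P.basicOpen h := by
      have h4 : Q₀ ∈ c.affO.fromSpec ⁻¹ᵁ P.basicOpen h := by
        rw [c.affO.fromSpec_preimage_basicOpen]; exact hQh
      have h5 : c.affO.fromSpec Q₀ ∈ P.basicOpen h := h4
      rwa [hQ₀] at h5
    have hle1 : a ⁻¹ᵁ P.basicOpen h ≤ U := by
      intro z hz
      have hzO : z ∈ a ⁻¹ᵁ O := P.basicOpen_le h hz
      have h1 : c.affX.fromSpec (c.affX.primeIdealOf ⟨z, hzO⟩) = z := c.affX.fromSpec_primeIdealOf _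
      rw [Scheme.preimage_basicOpen, ← h1] at hz
      have h2 : c.affX.primeIdealOf ⟨z, hzO⟩ ∈ c.affX.fromSpec ⁻¹ᵁ X.basicOpen (a.app O h) := hz
      rw [c.affX.fromSpec_preimage_basicOpen] at h2
      have h3 : c.affX.fromSpec (c.affX.primeIdealOf ⟨z, hzO⟩) ∈ U := hhU h2
      rwa [h1] at h3
    have hle2 : b ⁻¹ᵁ P.basicOpen h ≤ V := by
      intro z hz
      have hzO : z ∈ b ⁻¹ᵁ O := P.basicOpen_le h hz
      have h1 : c.affY.fromSpec (c.affY.primeIdealOf ⟨z, hzO⟩) = z := c.affY.fromSpec_primeIdealOf _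
      rw [Scheme.preimage_basicOpen, ← h1] at hz
      have h2 : c.affY.primeIdealOf ⟨z, hzO⟩ ∈ c.affY.fromSpec ⁻¹ᵁ Y.basicOpen (b.app O h) := hz
      rw [c.affY.fromSpec_preimage_basicOpen] at h2
      have h3 : c.affY.fromSpec (c.affY.primeIdealOf ⟨z, hzO⟩) ∈ V := hhV h2
      rwa [h1] at h3
    exact le_iSup₂ (f := fun (S : P.Opens) (_ : a ⁻¹ᵁ S ≤ U ∧ b ⁻¹ᵁ S ≤ V) => S) (P.basicOpen h) ⟨hle1, hle2⟩ hxh
  refine ⟨S, le_antisymm ?_ fun z hz => key _ (Or.inl ⟨z, hz, rfl⟩),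
    le_antisymm ?_ fun v hv => key _ (Or.inr ⟨v, hv, rfl⟩)⟩
  · intro z hz
    obtain ⟨S', hS'⟩ := Opens.mem_iSup.1 hz
    obtain ⟨h, hz'⟩ := Opens.mem_iSup.1 hS'
    exact h.1 hz'
  · intro z hz
    obtain ⟨S', hS'⟩ := Opens.mem_iSup.1 hz
    obtain ⟨h, hz'⟩ := Opens.mem_iSup.1 hS'
    exact h.2 hz'

/-- A morphism from the pinching of open pieces is an open immersion. -/
theorem IsPinch.isOpenImmersion_desc {X' Y' Z' P' : Scheme.{u}} {i' : Z' ⟶ X'} {j' : Z' ⟶ Y'} {a' : X' ⟶ P'}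
    {b' : Y' ⟶ P'} (H : IsPinch i j a b) (H' : IsPinch i' j' a' b')
    (eX : X' ⟶ X) (eY : Y' ⟶ Y) (eZ : Z' ⟶ Z) [IsOpenImmersion eX] [IsOpenImmersion eY] [IsOpenImmersion eZ]
    (hi : eZ ≫ i = i' ≫ eX) (hj : eZ ≫ j = j' ≫ eY) (rX : i ⁻¹ᵁ eX.opensRange = eZ.opensRange)
    (rY : j ⁻¹ᵁ eY.opensRange = eZ.opensRange) (f : P' ⟶ P) (hfa : a' ≫ f = eX ≫ a) (hfb : b' ≫ f = eY ≫ b) :
    ∃ _ : IsOpenImmersion f, a ⁻¹ᵁ f.opensRange = eX.opensRange ∧ b ⁻¹ᵁ f.opensRange = eY.opensRange := by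
  obtain ⟨S, hSa, hSb⟩ := H.exists_open _ _ (rX.trans rY.symm)
  let a'' : X' ⟶ S.toScheme := IsOpenImmersion.lift S.ι (eX ≫ a) (by
    rintro _ ⟨z, rfl⟩
    rw [Scheme.Opens.range_ι]
    show eX z ∈ a ⁻¹ᵁ S
    rw [hSa]; exact ⟨z, rfl⟩)
  let b'' : Y' ⟶ S.toScheme := IsOpenImmersion.lift S.ι (eY ≫ b) (by
    rintro _ ⟨z, rfl⟩
    rw [Scheme.Opens.range_ι]
    show eY z ∈ b ⁻¹ᵁ S
    rw [hSb]; exact ⟨z, rfl⟩)
  have ha'' : a'' ≫ S.ι = eX ≫ a := IsOpenImmersion.lift_fac _ _ _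
  have hb'' : b'' ≫ S.ι = eY ≫ b := IsOpenImmersion.lift_fac _ _ _
  have w'' : i' ≫ a'' = j' ≫ b'' := by
    rw [← cancel_mono S.ι, Category.assoc, Category.assoc, ha'', hb'', ← Category.assoc, ← hi, ← Category.assoc,
      ← hj, Category.assoc, Category.assoc, H.w]
  have H'' : IsPinch i' j' a'' b'' := isPinch_of_openImmersion eX eY eZ S.ι hi hj ha''.symm hb''.symm
    (by rw [Scheme.Opens.opensRange_ι, hSa]) (by rw [Scheme.Opens.opensRange_ι, hSb]) rX H.w w'' H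
  let e := H'.isPushout.isoIsPushout _ _ H''.isPushout
  have hf : f = e.hom ≫ S.ι := H'.hom_ext
    (by rw [hfa, ← Category.assoc, IsPushout.inl_isoIsPushout_hom, ha''])
    (by rw [hfb, ← Category.assoc, IsPushout.inr_isoIsPushout_hom, hb''])
  subst hf
  refine ⟨inferInstance, ?_, ?_⟩ <;>
    rw [Scheme.Hom.opensRange_comp_of_isIso, Scheme.Opens.opensRange_ι]
  · exact hSa
  · exact hSb

end Groth.Agent.Pinch4
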