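import Groth.Agent.Lib.FerrandPush.Basic
import Mathlib

/-!
# Ferrand squares of rings: invariance, points and topology
-/

set_option autoImplicit false
universe u

open Groth.Agent.FerrandPush PrimeSpectrum TopologicalSpace

namespace Groth.Agent.Pinch4

variable {A A' B B' : Type u} [CommRing A] [CommRing A'] [CommRing B] [CommRing B']
  {p : A' →+* A} {q : B →+* A} {i : B' →+* B} {j : B' →+* A'}

/-- Ferrand squares are invariant under isomorphism. -/
theorem congr {A₁ A₁' B₁ B₁' : Type u} [CommRing A₁] [CommRing A₁'] [CommRing B₁] [CommRing B₁']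
    {p₁ : A₁' →+* A₁} {q₁ : B₁ →+* A₁} {i₁ : B₁' →+* B₁} {j₁ : B₁' →+* A₁'} (H : IsFerrand p q i j)
    (eA : A →+* A₁) (eA' : A' →+* A₁') (eB : B →+* B₁) (eB' : B' →+* B₁')
    (hA : Function.Bijective eA) (hA' : Function.Bijective eA') (hB : Function.Bijective eB)
    (hB' : Function.Bijective eB') (hp : p₁.comp eA' = eA.comp p) (hq : q₁.comp eB = eA.comp q)
    (hi : i₁.comp eB' = eB.comp i) (hj : j₁.comp eB' = eA'.comp j) : IsFerrand p₁ q₁ i₁ j₁ where
  surj y := by
    obtain ⟨a, rfl⟩ := hA.2 y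
    obtain ⟨a', rfl⟩ := H.surj a
    exact ⟨eA' a', RingHom.congr_fun hp a'⟩
  comm x := by
    obtain ⟨x, rfl⟩ := hB'.2 x
    have h1 := RingHom.congr_fun hi x
    have h2 := RingHom.congr_fun hj x
    simp only [RingHom.comp_apply] at h1 h2
    rw [h1, h2]
    have h3 := RingHom.congr_fun hq (i x)
    have h4 := RingHom.congr_fun hp (j x)
    simp only [RingHom.comp_apply] at h3 h4
    rw [h3, h4, H.comm]
  exist b a hba := by
    obtain ⟨b, rfl⟩ := hB.2 b
    obtain ⟨a, rfl⟩ := hA'.2 a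
    have h3 := RingHom.congr_fun hq b
    have h4 := RingHom.congr_fun hp a
    simp only [RingHom.comp_apply] at h3 h4
    rw [h3, h4] at hba
    obtain ⟨x, rfl, rfl⟩ := H.exist b a (hA.1 hba)
    exact ⟨eB' x, RingHom.congr_fun hi x, RingHom.congr_fun hj x⟩
  ext x y h1 h2 := by
    obtain ⟨x, rfl⟩ := hB'.2 x
    obtain ⟨y, rfl⟩ := hB'.2 y
    have e1 := fun z => RingHom.congr_fun hi z
    have e2 := fun z => RingHom.congr_fun hj z
    simp only [RingHom.comp_apply] at e1 e2
    rw [e1, e1] at h1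
    rw [e2, e2] at h2
    rw [H.ext x y (hB.1 h1) (hA'.1 h2)]

/-- Localisation of a Ferrand square, for arbitrary localisation models. -/
theorem away' {L M N O : Type u} [CommRing L] [CommRing M] [CommRing N] [CommRing O] [Algebra B' L] [Algebra B M]
    [Algebra A' N] [Algebra A O] (H : IsFerrand p q i j) (h : B') [IsLocalization.Away h L]
    [IsLocalization.Away (i h) M] [IsLocalization.Away (j h) N] [IsLocalization.Away (p (j h)) O]
    (p₁ : N →+* O) (q₁ : M →+* O) (i₁ : L →+* M) (j₁ : L →+* N)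
    (hp : p₁.comp (algebraMap A' N) = (algebraMap A O).comp p)
    (hq : q₁.comp (algebraMap B M) = (algebraMap A O).comp q)
    (hi : i₁.comp (algebraMap B' L) = (algebraMap B M).comp i)
    (hj : j₁.comp (algebraMap B' L) = (algebraMap A' N).comp j) : IsFerrand p₁ q₁ i₁ j₁ := by
  let eL := IsLocalization.algEquiv (Submonoid.powers h) (Localization.Away h) L
  let eM := IsLocalization.algEquiv (Submonoid.powers (i h)) (Localization.Away (i h)) M
  let eN := IsLocalization.algEquiv (Submonoid.powers (j h)) (Localization.Away (j h)) N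
  let eO := IsLocalization.algEquiv (Submonoid.powers (p (j h))) (Localization.Away (p (j h))) O
  refine congr (H.away h) eO.toRingEquiv.toRingHom eN.toRingEquiv.toRingHom eM.toRingEquiv.toRingHom
    eL.toRingEquiv.toRingHom eO.bijective eN.bijective eM.bijective eL.bijective ?_ ?_ ?_ ?_
  · refine IsLocalization.ringHom_ext (Submonoid.powers (j h)) (RingHom.ext fun x => ?_)
    simpa [IsLocalization.map_eq] using RingHom.congr_fun hp x
  · refine IsLocalization.ringHom_ext (Submonoid.powers (i h)) (RingHom.ext fun x => ?_)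
    simpa [IsLocalization.map_eq] using RingHom.congr_fun hq x
  · refine IsLocalization.ringHom_ext (Submonoid.powers h) (RingHom.ext fun x => ?_)
    simpa [IsLocalization.map_eq] using RingHom.congr_fun hi x
  · refine IsLocalization.ringHom_ext (Submonoid.powers h) (RingHom.ext fun x => ?_)
    simpa [IsLocalization.map_eq] using RingHom.congr_fun hj x

/-- The kernel of the surjection on `A'` is the image of the kernel of `i`. -/
theorem ker_p (H : IsFerrand p q i j) : (RingHom.ker p : Set A') = j '' (RingHom.ker i : Set B') := by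
  ext a
  constructor
  · intro ha
    obtain ⟨x, hx1, hx2⟩ := H.exist 0 a (by rw [map_zero]; exact (RingHom.mem_ker.1 ha).symm)
    exact ⟨x, hx1, hx2⟩
  · rintro ⟨x, hx, rfl⟩
    show p (j x) = 0
    rw [← H.comm, RingHom.mem_ker.1 hx, map_zero]

/-- Outside the glued locus the map to the pushout is injective. -/
theorem eq_of_comap_eq (H : IsFerrand p q i j) {Q Q' : PrimeSpectrum A'} (hQ : ¬RingHom.ker p ≤ Q.asIdeal)
    (he : comap j Q = comap j Q') : Q = Q' := by
  have key : ∀ y, j y ∈ Q.asIdeal ↔ j y ∈ Q'.asIdeal := fun y => by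
    show y ∈ (comap j Q).asIdeal ↔ y ∈ (comap j Q').asIdeal
    rw [he]
  obtain ⟨f, hf, hfQ⟩ := SetLike.not_le_iff_exists.1 hQ
  obtain ⟨x₀, hx₀, rfl⟩ : f ∈ j '' (RingHom.ker i : Set B') := ker_p H ▸ hf
  have hfQ' : j x₀ ∉ Q'.asIdeal := fun h => hfQ ((key x₀).2 h)
  have lift : ∀ a, ∃ x, j x = a * j x₀ := fun a => by
    have : a * j x₀ ∈ (RingHom.ker p : Set A') := (RingHom.ker p).mul_mem_left a hf
    rw [ker_p H] at this
    obtain ⟨x, -, hx⟩ := this
    exact ⟨x, hx⟩
  refine PrimeSpectrum.ext (Ideal.ext fun a => ?_)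
  obtain ⟨x, hx⟩ := lift a
  constructor
  · intro ha
    exact (Q'.isPrime.mem_or_mem (hx ▸ (key x).1 (hx ▸ Q.asIdeal.mul_mem_right _ ha))).resolve_right hfQ'
  · intro ha
    exact (Q.isPrime.mem_or_mem (hx ▸ (key x).2 (hx ▸ Q'.asIdeal.mul_mem_right _ ha))).resolve_right hfQ

/-- A point of the pushout in both pieces comes from the glued locus. -/
theorem exists_of_comap_eq (H : IsFerrand p q i j) {Q : PrimeSpectrum A'} {R : PrimeSpectrum B}
    (he : comap j Q = comap i R) : ∃ T : PrimeSpectrum A, comap p T = Q ∧ comap q T = R := by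
  have hle : RingHom.ker p ≤ Q.asIdeal := fun f hf => by
    obtain ⟨x, hx, rfl⟩ : f ∈ j '' (RingHom.ker i : Set B') := ker_p H ▸ hf
    show x ∈ (comap j Q).asIdeal
    rw [he]
    show i x ∈ R.asIdeal
    rw [RingHom.mem_ker.1 hx]
    exact zero_mem _
  obtain ⟨T, hT⟩ : Q ∈ Set.range (comap p) := by
    rw [range_comap_of_surjective _ _ H.surj]; exact hle
  refine ⟨T, hT, PrimeSpectrum.comap_injective_of_surjective i H.surj_i ?_⟩
  rw [← he, ← hT, ← comap_comp_apply, ← comap_comp_apply]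
  exact congrArg (fun k => comap k T) (RingHom.ext H.comm)

/-- Opens of the two pieces which agree on the glued locus come from basic opens of the pushout. -/
theorem exists_basicOpen (H : IsFerrand p q i j) (U : Opens (PrimeSpectrum A')) (V : Opens (PrimeSpectrum B))
    (hUV : ∀ T, comap p T ∈ U ↔ comap q T ∈ V) (P : PrimeSpectrum B')
    (hA : ∀ Q, comap j Q = P → Q ∈ U) (hB : ∀ R, comap i R = P → R ∈ V) :
    ∃ h, P ∈ basicOpen h ∧ basicOpen (j h) ≤ U ∧ basicOpen (i h) ≤ V := by
  by_cases hP : RingHom.ker i ≤ P.asIdeal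
  · obtain ⟨R, rfl⟩ : P ∈ Set.range (comap i) := by
      rw [range_comap_of_surjective _ _ H.surj_i]; exact hP
    obtain ⟨_, ⟨_, ⟨b, rfl⟩, rfl⟩, hQb, hbU⟩ :=
      (PrimeSpectrum.isBasis_basic_opens (R := B)).exists_subset_of_mem_open (a := R) (hB R rfl) V.isOpen
    obtain ⟨h0, rfl⟩ := H.surj_i b
    obtain ⟨I, hI⟩ := (PrimeSpectrum.isClosed_iff_zeroLocus_ideal _).1 U.isOpen.isClosed_compl
    have hrad : j h0 ∈ (I ⊔ RingHom.ker p).radical := by
      rw [Ideal.radical_eq_sInf, Ideal.mem_sInf]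
      rintro Q ⟨hQ, hQp⟩
      by_contra hn
      have hmem : (⟨Q, hQp⟩ : PrimeSpectrum A') ∈ zeroLocus (I : Set A') := le_sup_left.trans hQ
      rw [← hI] at hmem
      obtain ⟨S, hS⟩ : (⟨Q, hQp⟩ : PrimeSpectrum A') ∈ Set.range (comap p) := by
        rw [range_comap_of_surjective _ _ H.surj]
        exact le_sup_right.trans hQ
      refine hmem ?_
      show (⟨Q, hQp⟩ : PrimeSpectrum A') ∈ U
      rw [← hS, hUV]
      refine hbU ?_
      show q (i h0) ∉ S.asIdeal
      rw [H.comm]
      intro hmem'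
      exact hn ((congrArg PrimeSpectrum.asIdeal hS).le hmem')
    obtain ⟨n, hn⟩ := hrad
    obtain ⟨a, ha, k, hk, hak⟩ := Submodule.mem_sup.1 hn
    obtain ⟨x, hx1, hx2⟩ := H.exist 0 k (by rw [map_zero]; exact (RingHom.mem_ker.1 hk).symm)
    refine ⟨h0 ^ (n + 1) - h0 * x, ?_, ?_, ?_⟩
    · show i (h0 ^ (n + 1) - h0 * x) ∉ R.asIdeal
      rw [map_sub, map_mul, hx1, mul_zero, sub_zero, map_pow]
      exact fun h => hQb (R.isPrime.mem_of_pow_mem _ h)
    · intro S hS
      by_contra hSU
      have hSI : S ∈ zeroLocus (I : Set A') := hI ▸ hSU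
      refine hS ?_
      have e : j (h0 ^ (n + 1) - h0 * x) = j h0 * a := by
        rw [map_sub, map_mul, hx2, map_pow, pow_succ']
        rw [← hak]; ring
      show j (h0 ^ (n + 1) - h0 * x) ∈ S.asIdeal
      rw [e]
      exact S.asIdeal.mul_mem_left _ (hSI ha)
    · intro S hS
      refine hbU ?_
      show i h0 ∉ S.asIdeal
      intro h
      refine hS ?_
      rw [map_sub, map_mul, hx1, mul_zero, sub_zero, map_pow]
      exact Ideal.pow_mem_of_mem _ h _ (Nat.succ_pos n)
  · obtain ⟨f, hf, hfP⟩ := SetLike.not_le_iff_exists.1 hP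
    rw [RingHom.mem_ker] at hf
    obtain ⟨Q, rfl⟩ := (H.covers P).resolve_left fun ⟨Q, hQ⟩ => hP (by
      rw [← hQ]; intro z hz; show i z ∈ Q.asIdeal; rw [RingHom.mem_ker.1 hz]; exact zero_mem _)
    obtain ⟨_, ⟨_, ⟨g, rfl⟩, rfl⟩, hQg, hgU⟩ :=
      (PrimeSpectrum.isBasis_basic_opens (R := A')).exists_subset_of_mem_open (a := Q) (hA Q rfl) U.isOpen
    obtain ⟨x, hx1, hx2⟩ := H.exist 0 (g * j f) (by rw [map_zero, map_mul, ← H.comm, hf, map_zero, mul_zero])
    refine ⟨x, ?_, ?_, ?_⟩
    · show j x ∉ Q.asIdeal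
      rw [hx2]
      exact fun h => (Q.isPrime.mem_or_mem h).elim hQg hfP
    · intro S hS
      refine hgU ?_
      show g ∉ S.asIdeal
      intro h
      refine hS ?_
      rw [hx2]; exact S.asIdeal.mul_mem_right _ h
    · intro S hS
      exact absurd (show i x ∈ S.asIdeal by rw [hx1]; exact zero_mem _) hS

/-- Integrality passes from `q` to `j`. -/
theorem isIntegral_j (H : IsFerrand p q i j) (hq : q.IsIntegral) : j.IsIntegral := by
  intro a
  obtain ⟨f, hf, hfa⟩ := hq (p a)
  obtain ⟨g, hg, -, hgm⟩ := Polynomial.lifts_and_natDegree_eq_and_monic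
    ((Polynomial.lifts_iff_coeff_lifts f).2 fun n => H.surj_i (f.coeff n)) hf
  have h1 : p (Polynomial.eval₂ j a g) = 0 := by
    rw [Polynomial.hom_eval₂, show p.comp j = q.comp i from RingHom.ext fun x => (H.comm x).symm,
      ← Polynomial.eval₂_map, hg, hfa]
  obtain ⟨r, -, hr⟩ : Polynomial.eval₂ j a g ∈ j '' (RingHom.ker i : Set B') := ker_p H ▸ h1
  by_cases hd : g.natDegree = 0
  · rw [hgm.natDegree_eq_zero.1 hd, Polynomial.eval₂_one, map_one] at h1
    obtain ⟨x, -, hx⟩ : a ∈ j '' (RingHom.ker i : Set B') := ker_p H ▸ (show p a = 0 by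
      rw [← mul_one (p a), h1, mul_zero])
    exact ⟨Polynomial.X - Polynomial.C x, Polynomial.monic_X_sub_C x, by simp [hx]⟩
  · refine ⟨g - Polynomial.C r, hgm.sub_of_left ?_, ?_⟩
    · exact Polynomial.degree_C_le.trans_lt (Polynomial.natDegree_pos_iff_degree_pos.1 (Nat.pos_of_ne_zero hd))
    · rw [Polynomial.eval₂_sub, Polynomial.eval₂_C, hr, sub_self]

end Groth.Agent.Pinch4
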