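import Groth.Agent.Lib.Pinch4.Alg
import Mathlib

/-!
# Squares of schemes which are locally Ferrand squares are pushouts
-/

set_option autoImplicit false
set_option linter.style.haveILetI false
universe u

set_option backward.isDefEq.respectTransparency.types false

open AlgebraicGeometry CategoryTheory CategoryTheory.Limits TopologicalSpace Groth.Agent.FerrandPush

namespace Groth.Agent.Pinch4

variable {X Y Z P : Scheme.{u}} {i : Z ⟶ X} {j : Z ⟶ Y} {a : X ⟶ P} {b : Y ⟶ P}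

/-- `O` is an affine open of `P` over which the square is a Ferrand square of rings. -/
structure Chart (i : Z ⟶ X) (j : Z ⟶ Y) (a : X ⟶ P) (b : Y ⟶ P) (O : P.Opens) : Prop where
  affO : IsAffineOpen O
  affX : IsAffineOpen (a ⁻¹ᵁ O)
  affY : IsAffineOpen (b ⁻¹ᵁ O)
  affZ : IsAffineOpen (i ⁻¹ᵁ a ⁻¹ᵁ O)
  le : i ⁻¹ᵁ a ⁻¹ᵁ O ≤ j ⁻¹ᵁ b ⁻¹ᵁ O
  ferrand : IsFerrand (i.app (a ⁻¹ᵁ O)).hom (j.appLE (b ⁻¹ᵁ O) (i ⁻¹ᵁ a ⁻¹ᵁ O) le).hom (b.app O).hom (a.app O).hom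

/-- The square is locally on `P` a Ferrand square. -/
structure IsPinch (i : Z ⟶ X) (j : Z ⟶ Y) (a : X ⟶ P) (b : Y ⟶ P) : Prop where
  w : i ≫ a = j ≫ b
  cover : ∀ x : P, ∃ O, x ∈ O ∧ Chart i j a b O

/-- Basic opens of charts are charts. -/
theorem Chart.basicOpen {O : P.Opens} (c : Chart i j a b O) (w : i ≫ a = j ≫ b) (h : Γ(P, O)) :
    Chart i j a b (P.basicOpen h) := by
  have hle : i ⁻¹ᵁ a ⁻¹ᵁ P.basicOpen h ≤ j ⁻¹ᵁ b ⁻¹ᵁ P.basicOpen h := by
    rw [← Scheme.Hom.comp_preimage, w, Scheme.Hom.comp_preimage]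
  have hX : a ⁻¹ᵁ P.basicOpen h = X.basicOpen (a.app O h) := Scheme.preimage_basicOpen a h
  have hY : b ⁻¹ᵁ P.basicOpen h = Y.basicOpen (b.app O h) := Scheme.preimage_basicOpen b h
  have hZ : i ⁻¹ᵁ a ⁻¹ᵁ P.basicOpen h = Z.basicOpen (i.app (a ⁻¹ᵁ O) (a.app O h)) := by
    rw [hX, Scheme.preimage_basicOpen]
  refine ⟨c.affO.basicOpen h, hX ▸ c.affX.basicOpen _, hY ▸ c.affY.basicOpen _, hZ ▸ c.affZ.basicOpen _, hle, ?_⟩
  letI := (P.presheaf.map (homOfLE (P.basicOpen_le h)).op).hom.toAlgebra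
  letI := (X.presheaf.map (homOfLE (a.preimage_mono (P.basicOpen_le h))).op).hom.toAlgebra
  letI := (Y.presheaf.map (homOfLE (b.preimage_mono (P.basicOpen_le h))).op).hom.toAlgebra
  letI := (Z.presheaf.map (homOfLE (i.preimage_mono (a.preimage_mono (P.basicOpen_le h)))).op).hom.toAlgebra
  haveI : IsLocalization.Away h Γ(P, P.basicOpen h) := c.affO.isLocalization_basicOpen h
  haveI : IsLocalization.Away ((b.app O).hom h) Γ(Y, b ⁻¹ᵁ P.basicOpen h) :=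
    c.affY.isLocalization_of_eq_basicOpen _ (homOfLE (b.preimage_mono (P.basicOpen_le h))) hY
  haveI : IsLocalization.Away ((a.app O).hom h) Γ(X, a ⁻¹ᵁ P.basicOpen h) :=
    c.affX.isLocalization_of_eq_basicOpen _ (homOfLE (a.preimage_mono (P.basicOpen_le h))) hX
  haveI : IsLocalization.Away ((i.app (a ⁻¹ᵁ O)).hom ((a.app O).hom h)) Γ(Z, i ⁻¹ᵁ a ⁻¹ᵁ P.basicOpen h) :=
    c.affZ.isLocalization_of_eq_basicOpen _ (homOfLE (i.preimage_mono (a.preimage_mono (P.basicOpen_le h)))) hZ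
  have nat : ∀ {V W : Scheme.{u}} (f : V ⟶ W) {U U' : W.Opens} (e : U' ≤ U),
      W.presheaf.map (homOfLE e).op ≫ f.app U' = f.app U ≫ V.presheaf.map (homOfLE (f.preimage_mono e)).op := by
    intro V W f U U' e
    exact f.naturality (homOfLE e).op
  refine away' c.ferrand h _ _ _ _ ?_ ?_ ?_ ?_
  · exact congrArg CommRingCat.Hom.hom (nat i (a.preimage_mono (P.basicOpen_le h)))
  · refine congrArg CommRingCat.Hom.hom (?_ : Y.presheaf.map _ ≫ _ = _ ≫ Z.presheaf.map _)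
    rw [Scheme.Hom.map_appLE, Scheme.Hom.appLE_map]
  · exact congrArg CommRingCat.Hom.hom (nat b (P.basicOpen_le h))
  · exact congrArg CommRingCat.Hom.hom (nat a (P.basicOpen_le h))

theorem IsPinch.exists_chart_le (H : IsPinch i j a b) (x : P) (U : P.Opens) (hx : x ∈ U) :
    ∃ O, x ∈ O ∧ O ≤ U ∧ Chart i j a b O := by
  obtain ⟨O, hxO, c⟩ := H.cover x
  obtain ⟨h, hle, hxh⟩ := c.affO.exists_basicOpen_le ⟨x, hx⟩ hxO
  exact ⟨_, hxh, hle, c.basicOpen H.w h⟩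

/-- A morphism on an open of `P` inducing given morphisms on the two pieces. -/
def Good {T : Scheme.{u}} (a : X ⟶ P) (b : Y ⟶ P) (α : X ⟶ T) (β : Y ⟶ T) {O : P.Opens} (δ : O.toScheme ⟶ T) : Prop :=
  (∀ {W : Scheme.{u}} (u : W ⟶ O.toScheme) (v : W ⟶ X), u ≫ O.ι = v ≫ a → u ≫ δ = v ≫ α) ∧
    ∀ {W : Scheme.{u}} (u : W ⟶ O.toScheme) (v : W ⟶ Y), u ≫ O.ι = v ≫ b → u ≫ δ = v ≫ β

theorem Good.restrict {T : Scheme.{u}} {α : X ⟶ T} {β : Y ⟶ T} {O D : P.Opens} {δ : O.toScheme ⟶ T}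
    (h : Good a b α β δ) (e : D ≤ O) : Good a b α β (P.homOfLE e ≫ δ) := by
  refine ⟨fun u v huv => ?_, fun u v huv => ?_⟩
  · rw [← Category.assoc]
    exact h.1 _ v (by rw [Category.assoc, Scheme.homOfLE_ι, huv])
  · rw [← Category.assoc]
    exact h.2 _ v (by rw [Category.assoc, Scheme.homOfLE_ι, huv])

theorem sp_hom {R S : CommRingCat.{u}} (f : R ⟶ S) : sp f.hom = Spec.map f := rfl

theorem Chart.sq_a {O : P.Opens} (c : Chart i j a b O) :
    (sp (a.app O).hom ≫ c.affO.isoSpec.inv) ≫ O.ι = c.affX.fromSpec ≫ a := by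
  rw [Category.assoc, IsAffineOpen.isoSpec_inv_ι, ← IsAffineOpen.SpecMap_appLE_fromSpec a c.affO c.affX le_rfl,
    ← Scheme.Hom.app_eq_appLE]
  rfl

theorem Chart.sq_b {O : P.Opens} (c : Chart i j a b O) :
    (sp (b.app O).hom ≫ c.affO.isoSpec.inv) ≫ O.ι = c.affY.fromSpec ≫ b := by
  rw [Category.assoc, IsAffineOpen.isoSpec_inv_ι, ← IsAffineOpen.SpecMap_appLE_fromSpec b c.affO c.affY le_rfl,
    ← Scheme.Hom.app_eq_appLE]
  rfl

theorem Chart.good_unique {T : Scheme.{u}} {α : X ⟶ T} {β : Y ⟶ T} {O : P.Opens} (c : Chart i j a b O)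
    {δ δ' : O.toScheme ⟶ T} (h : Good a b α β δ) (h' : Good a b α β δ') : δ = δ' := by
  rw [← cancel_epi c.affO.isoSpec.inv]
  refine c.ferrand.hom_ext ?_ ?_
  · rw [← Category.assoc, ← Category.assoc, h.2 _ _ c.sq_b, h'.2 _ _ c.sq_b]
  · rw [← Category.assoc, ← Category.assoc, h.1 _ _ c.sq_a, h'.1 _ _ c.sq_a]

theorem Chart.exists_good {T : Scheme.{u}} (α : X ⟶ T) (β : Y ⟶ T) (hαβ : i ≫ α = j ≫ β) {O : P.Opens}
    (c : Chart i j a b O) : ∃ δ : O.toScheme ⟶ T, Good a b α β δ := by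
  obtain ⟨γ, h1, h2⟩ := c.ferrand.exists_desc (c.affY.fromSpec ≫ β) (c.affX.fromSpec ≫ α) (by
    rw [← Category.assoc, ← Category.assoc, sp_hom, sp_hom,
      IsAffineOpen.SpecMap_appLE_fromSpec j c.affY c.affZ c.le, Scheme.Hom.app_eq_appLE,
      IsAffineOpen.SpecMap_appLE_fromSpec i c.affX c.affZ le_rfl, Category.assoc, Category.assoc, hαβ])
  have lift : ∀ {V W : Scheme.{u}} (f : V ⟶ P) (hf : IsAffineOpen (f ⁻¹ᵁ O)) (u : W ⟶ O.toScheme) (v : W ⟶ V),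
      u ≫ O.ι = v ≫ f → ∃ w : W ⟶ Spec Γ(V, f ⁻¹ᵁ O), w ≫ hf.fromSpec = v ∧ w ≫ sp (f.app O).hom = u ≫ c.affO.isoSpec.hom := by
    intro V W f hf u v huv
    have hr : Set.range v ⊆ Set.range hf.fromSpec := by
      rintro _ ⟨z, rfl⟩
      rw [hf.range_fromSpec]
      show f (v z) ∈ O
      rw [← Scheme.Hom.comp_apply, ← huv, Scheme.Hom.comp_apply]
      exact (u z).2
    refine ⟨IsOpenImmersion.lift hf.fromSpec v hr, IsOpenImmersion.lift_fac _ _ _, ?_⟩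
    rw [← cancel_mono c.affO.fromSpec, Category.assoc, Category.assoc,
      show sp (f.app O).hom = Spec.map (f.app O) from rfl, Scheme.Hom.app_eq_appLE,
      IsAffineOpen.SpecMap_appLE_fromSpec f c.affO hf le_rfl, ← Category.assoc, IsOpenImmersion.lift_fac,
      IsAffineOpen.isoSpec_hom, IsAffineOpen.toSpecΓ_fromSpec]
    exact huv.symm
  refine ⟨c.affO.isoSpec.hom ≫ γ, fun u v huv => ?_, fun u v huv => ?_⟩
  · obtain ⟨w, hw1, hw2⟩ := lift a c.affX u v huv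
    rw [← Category.assoc, ← hw2, Category.assoc, h2, ← Category.assoc, hw1]
  · obtain ⟨w, hw1, hw2⟩ := lift b c.affY u v huv
    rw [← Category.assoc, ← hw2, Category.assoc, h1, ← Category.assoc, hw1]

theorem IsPinch.hom_ext (H : IsPinch i j a b) {T : Scheme.{u}} {γ γ' : P ⟶ T} (ha : a ≫ γ = a ≫ γ')
    (hb : b ≫ γ = b ≫ γ') : γ = γ' := by
  refine Scheme.hom_ext_of_forall _ _ fun x => ?_
  obtain ⟨O, hx, c⟩ := H.cover x
  refine ⟨O, hx, c.good_unique (α := a ≫ γ) (β := b ≫ γ) ⟨fun u v h => ?_, fun u v h => ?_⟩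
    ⟨fun u v h => ?_, fun u v h => ?_⟩⟩
  · rw [← Category.assoc, h, Category.assoc]
  · rw [← Category.assoc, h, Category.assoc]
  · rw [← Category.assoc, h, Category.assoc, ha]
  · rw [← Category.assoc, h, Category.assoc, hb]

theorem IsPinch.good_compat (H : IsPinch i j a b) {T : Scheme.{u}} {α : X ⟶ T} {β : Y ⟶ T} {O₁ O₂ : P.Opens}
    {δ₁ : O₁.toScheme ⟶ T} {δ₂ : O₂.toScheme ⟶ T} (h₁ : Good a b α β δ₁) (h₂ : Good a b α β δ₂) :
    pullback.fst O₁.ι O₂.ι ≫ δ₁ = pullback.snd O₁.ι O₂.ι ≫ δ₂ := by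
  refine Scheme.hom_ext_of_forall _ _ fun z => ?_
  let t := pullback.fst O₁.ι O₂.ι ≫ O₁.ι
  obtain ⟨D, hzD, hD, cD⟩ := H.exists_chart_le (t z) t.opensRange ⟨z, rfl⟩
  let l : D.toScheme ⟶ pullback O₁.ι O₂.ι := IsOpenImmersion.lift t D.ι (by
    rw [Scheme.Opens.range_ι]; exact hD)
  have hl : l ≫ t = D.ι := IsOpenImmersion.lift_fac _ _ _
  haveI : IsOpenImmersion l := by
    haveI : IsOpenImmersion (l ≫ t) := by rw [hl]; infer_instance
    exact IsOpenImmersion.of_comp l t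
  refine ⟨l.opensRange, ?_, ?_⟩
  · refine ⟨⟨t z, hzD⟩, t.isOpenEmbedding.injective ?_⟩
    rw [← Scheme.Hom.comp_apply, hl]; rfl
  rw [← Scheme.Hom.isoOpensRange_inv_comp l, Category.assoc, Category.assoc]
  congr 1
  have h1 : D ≤ O₁ := fun p hp => by
    obtain ⟨w, rfl⟩ := hD hp
    exact ((pullback.fst O₁.ι O₂.ι) w).2
  have h2 : D ≤ O₂ := fun p hp => by
    obtain ⟨w, rfl⟩ := hD hp
    show (pullback.fst O₁.ι O₂.ι ≫ O₁.ι) w ∈ O₂
    rw [pullback.condition]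
    exact ((pullback.snd O₁.ι O₂.ι) w).2
  have e1 : l ≫ pullback.fst _ _ = P.homOfLE h1 := by
    rw [← cancel_mono O₁.ι, Category.assoc, Scheme.homOfLE_ι]
    exact hl
  have e2 : l ≫ pullback.snd _ _ = P.homOfLE h2 := by
    rw [← cancel_mono O₂.ι, Category.assoc, Scheme.homOfLE_ι]
    exact (congrArg (l ≫ ·) pullback.condition.symm).trans hl
  rw [← Category.assoc, ← Category.assoc, e1, e2]
  exact cD.good_unique (h₁.restrict h1) (h₂.restrict h2)

theorem IsPinch.exists_desc (H : IsPinch i j a b) {T : Scheme.{u}} (α : X ⟶ T) (β : Y ⟶ T)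
    (hαβ : i ≫ α = j ≫ β) : ∃ γ, a ≫ γ = α ∧ b ≫ γ = β := by
  choose O hx c using H.cover
  choose δ hδ using fun x => (c x).exists_good α β hαβ
  have hcov : ⨆ x, O x = ⊤ := top_le_iff.1 fun x _ => Opens.mem_iSup.2 ⟨x, hx x⟩
  let 𝒰 := P.openCoverOfIsOpenCover O hcov
  let G := 𝒰.glueMorphisms δ (fun x y => H.good_compat (hδ x) (hδ y))
  have hG : ∀ x, (O x).ι ≫ G = δ x := fun x => Scheme.Cover.ι_glueMorphisms 𝒰 δ _ x
  refine ⟨G, ?_, ?_⟩
  · refine Scheme.Cover.hom_ext (𝒰.pullback₁ a) _ _ fun x => ?_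
    show pullback.fst a (O x).ι ≫ a ≫ G = pullback.fst _ _ ≫ α
    exact ((pullback.condition_assoc G).trans (congrArg (pullback.snd _ _ ≫ ·) (hG x))).trans
      ((hδ x).1 _ _ pullback.condition.symm)
  · refine Scheme.Cover.hom_ext (𝒰.pullback₁ b) _ _ fun x => ?_
    show pullback.fst b (O x).ι ≫ b ≫ G = pullback.fst _ _ ≫ β
    exact ((pullback.condition_assoc G).trans (congrArg (pullback.snd _ _ ≫ ·) (hG x))).trans
      ((hδ x).2 _ _ pullback.condition.symm)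

/-- A pinching square is a pushout. -/
theorem IsPinch.isPushout (H : IsPinch i j a b) : IsPushout i j a b :=
  IsPushout.of_isColimit' ⟨H.w⟩ (PushoutCocone.IsColimit.mk H.w
    (fun s => (H.exists_desc s.inl s.inr s.condition).choose)
    (fun s => (H.exists_desc s.inl s.inr s.condition).choose_spec.1)
    (fun s => (H.exists_desc s.inl s.inr s.condition).choose_spec.2)
    (fun s _ h1 h2 => H.hom_ext
      (h1.trans (H.exists_desc s.inl s.inr s.condition).choose_spec.1.symm)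
      (h2.trans (H.exists_desc s.inl s.inr s.condition).choose_spec.2.symm)))

end Groth.Agent.Pinch4
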