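import Groth.Agent.Lib.Pinch4.BaseChange
import Mathlib

/-!
# Morphisms of Ferrand squares
-/

set_option autoImplicit false
set_option linter.style.haveILetI false
universe u

set_option backward.isDefEq.respectTransparency.types false

open CategoryTheory CategoryTheory.Limits Groth.Agent.FerrandPush TensorProduct

namespace Groth.Agent.Pinch4

section ker

variable {A C A' C' : CommRingCat.{u}} {p : A ⟶ C} {φA : A ⟶ A'} {φC : C ⟶ C'} {p' : A' ⟶ C'}

theorem exists_sum_of_isPushout (h : IsPushout p φA φC p') (c' : C') :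
    c' ∈ AddSubmonoid.closure {z | ∃ (c : C) (a' : A'), φC c * p' a' = z} := by
  letI := p.hom.toAlgebra
  letI := φA.hom.toAlgebra
  obtain ⟨e, he, hf⟩ := exists_bij h
  obtain ⟨t, rfl⟩ := he.2 c'
  induction t using TensorProduct.induction_on with
  | zero => rw [map_zero]; exact zero_mem _
  | tmul x y => exact AddSubmonoid.subset_closure ⟨x, y, (hf x y).symm⟩
  | add x y hx hy => rw [map_add]; exact add_mem hx hy

/-- The kernel of the base change of a surjection. -/
theorem ker_of_isPushout (h : IsPushout p φA φC p') (hp : Function.Surjective p) :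
    RingHom.ker p'.hom ≤ (RingHom.ker p.hom).map φA.hom := by
  let I := (RingHom.ker p.hom).map φA.hom
  let g : {g : A →+* A' ⧸ I // RingHom.ker p.hom ≤ RingHom.ker g} :=
    ⟨(Ideal.Quotient.mk I).comp φA.hom, fun a ha =>
      RingHom.mem_ker.2 (Ideal.Quotient.eq_zero_iff_mem.2 (Ideal.mem_map_of_mem _ ha))⟩
  let α : C →+* (A' ⧸ I) := RingHom.liftOfSurjective p.hom hp g
  obtain ⟨γ, -, hγ⟩ : ∃ γ : C' ⟶ CommRingCat.of (A' ⧸ I), φC ≫ γ = CommRingCat.ofHom α ∧
      p' ≫ γ = CommRingCat.ofHom (Ideal.Quotient.mk I) := by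
    refine ⟨h.desc (CommRingCat.ofHom α) (CommRingCat.ofHom (Ideal.Quotient.mk I)) ?_, h.inl_desc _ _ _, h.inr_desc _ _ _⟩
    ext a
    exact RingHom.liftOfRightInverse_comp_apply p.hom _ (Function.rightInverse_surjInv hp) g a
  intro x hx
  refine Ideal.Quotient.eq_zero_iff_mem.1 ?_
  have h2 := congr(($hγ).hom x)
  simp only [CommRingCat.hom_comp, RingHom.comp_apply, CommRingCat.hom_ofHom] at h2
  rw [← h2, RingHom.mem_ker.1 hx, map_zero]

end ker

variable {A B C D A' B' C' D' : CommRingCat.{u}} {p : A ⟶ C} {q : D ⟶ C} {i : B ⟶ D} {j : B ⟶ A}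
  {p' : A' ⟶ C'} {q' : D' ⟶ C'} {i' : B' ⟶ D'} {j' : B' ⟶ A'} {φA : A ⟶ A'} {φB : B ⟶ B'} {φC : C ⟶ C'} {φD : D ⟶ D'}

/-- Combinations of images of `A` and of `R`. -/
def gen (φA : A ⟶ A') (j' : B' ⟶ A') (R : Subring B') : AddSubmonoid A' :=
  AddSubmonoid.closure {z | ∃ (a : A) (y : B'), y ∈ R ∧ φA a * j' y = z}

theorem gen_mul (R : Subring B') {x z : A'} (hx : x ∈ gen φA j' R) (hz : z ∈ gen φA j' R) :
    x * z ∈ gen φA j' R := by
  induction hx using AddSubmonoid.closure_induction with
  | zero => rw [zero_mul]; exact zero_mem _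
  | add u v _ _ hu hv => rw [add_mul]; exact add_mem hu hv
  | mem u hu =>
    obtain ⟨a, y, hy, rfl⟩ := hu
    induction hz using AddSubmonoid.closure_induction with
    | zero => rw [mul_zero]; exact zero_mem _
    | add u v _ _ hu hv => rw [mul_add]; exact add_mem hu hv
    | mem u hu =>
      obtain ⟨b, w, hw, rfl⟩ := hu
      refine AddSubmonoid.subset_closure ⟨a * b, y * w, R.mul_mem hy hw, ?_⟩
      rw [map_mul, map_mul]; ring

/-- The glued piece generates. -/
theorem gen_top (H : IsFerrand p.hom q.hom i.hom j.hom) (H' : IsFerrand p'.hom q'.hom i'.hom j'.hom)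
    (hA : IsPushout p φA φC p') (hD : IsPushout q φD φC q') (a' : A') : a' ∈ gen φA j' ⊤ := by
  have hpl : ∀ c' : C', ∃ z ∈ gen φA j' ⊤, p' z = c' := by
    intro c'
    have hc' := exists_sum_of_isPushout hD c'
    induction hc' using AddSubmonoid.closure_induction with
    | zero => exact ⟨0, zero_mem _, map_zero _⟩
    | add u v _ _ hu hv =>
      obtain ⟨z, hz, rfl⟩ := hu
      obtain ⟨w, hw, rfl⟩ := hv
      exact ⟨z + w, add_mem hz hw, map_add _ _ _⟩
    | mem u hu =>
      obtain ⟨c, d, rfl⟩ := hu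
      obtain ⟨a, rfl⟩ := H.surj c
      obtain ⟨a₂, ha₂⟩ := H'.surj (q' d)
      obtain ⟨y, -, hy⟩ := H'.exist d a₂ ha₂.symm
      refine ⟨φA a * j' y, AddSubmonoid.subset_closure ⟨a, y, trivial, rfl⟩, ?_⟩
      rw [map_mul, show j' y = a₂ from hy]
      exact congrArg₂ (· * ·) (congr(($(hA.w)).hom a)).symm ha₂
  obtain ⟨z, hz, hpz⟩ := hpl (p' a')
  have hker : a' - z ∈ RingHom.ker p'.hom := by
    rw [RingHom.mem_ker, map_sub]; exact sub_eq_zero.2 hpz.symm
  obtain ⟨x, -, hx⟩ := H'.exist 0 (a' - z) (by rw [map_zero]; exact (RingHom.mem_ker.1 hker).symm)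
  rw [← sub_add_cancel a' z, ← hx]
  exact add_mem (AddSubmonoid.subset_closure ⟨1, x, trivial, by rw [map_one, one_mul]⟩) hz

/-- Elements killed by `i'` come from the conductor. -/
theorem exists_ker (H : IsFerrand p.hom q.hom i.hom j.hom) (H' : IsFerrand p'.hom q'.hom i'.hom j'.hom)
    (hA : IsPushout p φA φC p') (hAB : j ≫ φA = φB ≫ j') (hBD : φB ≫ i' = i ≫ φD) (R : Subring B')
    (hR : ∀ a', a' ∈ gen φA j' R) {x : B'} (hx : i' x = 0) :
    x ∈ AddSubmonoid.closure {z | ∃ (r : B) (y : B'), i r = 0 ∧ y ∈ R ∧ φB r * y = z} := by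
  let S := AddSubmonoid.closure {z | ∃ (r : B) (y : B'), i r = 0 ∧ y ∈ R ∧ φB r * y = z}
  have hkill : ∀ z ∈ S, i' z = 0 := by
    intro z hz
    induction hz using AddSubmonoid.closure_induction with
    | zero => exact map_zero _
    | add u v _ _ hu hv => rw [map_add, hu, hv, add_zero]
    | mem u hu =>
      obtain ⟨r, y, hr, -, rfl⟩ := hu
      have h := congr(($hBD).hom r)
      simp only [CommRingCat.hom_comp, RingHom.comp_apply] at h
      rw [map_mul, show i' (φB r) = φD (i r) from h, hr, map_zero, zero_mul]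
  have hm : j' x ∈ (RingHom.ker p.hom).map φA.hom := ker_of_isPushout hA H.surj (by
    rw [RingHom.mem_ker, ← H'.comm]; exact (congrArg q'.hom hx).trans (map_zero _))
  have key : ∀ m ∈ (RingHom.ker p.hom).map φA.hom, ∃ z ∈ S, j' z = m := by
    intro m hm
    induction hm using Submodule.span_induction with
    | zero => exact ⟨0, zero_mem _, map_zero _⟩
    | add u v _ _ hu hv =>
      obtain ⟨z, hz, rfl⟩ := hu
      obtain ⟨w, hw, rfl⟩ := hv
      exact ⟨z + w, add_mem hz hw, map_add _ _ _⟩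
    | mem u hu =>
      obtain ⟨m, hm, rfl⟩ := hu
      obtain ⟨r, hr, rfl⟩ : m ∈ j.hom '' (RingHom.ker i.hom : Set B) := ker_p H ▸ hm
      exact ⟨φB r * 1, AddSubmonoid.subset_closure ⟨r, 1, hr, R.one_mem, rfl⟩, by
        rw [mul_one]; exact (congr(($hAB).hom r)).symm⟩
    | smul a' u hu' hu =>
      clear hu'
      obtain ⟨z, hz, rfl⟩ := hu
      rw [smul_eq_mul]
      have ha := hR a'
      induction hz using AddSubmonoid.closure_induction with
      | zero => exact ⟨0, zero_mem _, by rw [map_zero, mul_zero]⟩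
      | add u v _ _ hu hv =>
        obtain ⟨z₁, hz₁, e₁⟩ := hu
        obtain ⟨z₂, hz₂, e₂⟩ := hv
        exact ⟨z₁ + z₂, add_mem hz₁ hz₂, by rw [map_add, e₁, e₂, map_add, mul_add]⟩
      | mem u hu =>
        obtain ⟨r, y, hr, hy, rfl⟩ := hu
        induction ha using AddSubmonoid.closure_induction with
        | zero => exact ⟨0, zero_mem _, by rw [map_zero, zero_mul]⟩
        | add u v _ _ hu hv =>
          obtain ⟨z₁, hz₁, e₁⟩ := hu
          obtain ⟨z₂, hz₂, e₂⟩ := hv
          exact ⟨z₁ + z₂, add_mem hz₁ hz₂, by rw [map_add, e₁, e₂, add_mul]⟩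
        | mem v hv =>
          obtain ⟨a, w, hw, rfl⟩ := hv
          have hm' : a * j r ∈ (RingHom.ker p.hom : Set A) := by
            refine (RingHom.ker p.hom).mul_mem_left a ?_
            show p.hom (j.hom r) = 0
            rw [← H.comm]; exact (congrArg q.hom hr).trans (map_zero _)
          rw [ker_p H] at hm'
          obtain ⟨r₂, hr₂, hr₂'⟩ := hm'
          refine ⟨φB r₂ * (w * y), AddSubmonoid.subset_closure ⟨r₂, _, hr₂, R.mul_mem hw hy, rfl⟩, ?_⟩
          have e : ∀ s, j' (φB s) = φA (j s) := fun s => (congr(($hAB).hom s)).symm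
          simp only [map_mul, e]
          rw [show j r₂ = a * j r from hr₂', map_mul]
          ring
  obtain ⟨z, hz, hjz⟩ := key _ hm
  rwa [H'.ext x z (hx.trans (hkill z hz).symm) hjz.symm]

/-- The piece `D` is cartesian. -/
theorem isPushout_D (H : IsFerrand p.hom q.hom i.hom j.hom) (H' : IsFerrand p'.hom q'.hom i'.hom j'.hom)
    (hA : IsPushout p φA φC p') (hD : IsPushout q φD φC q') (hAB : j ≫ φA = φB ≫ j') (hBD : φB ≫ i' = i ≫ φD) :
    IsPushout i φB φD i' := by
  refine ⟨⟨hBD.symm⟩, ⟨PushoutCocone.IsColimit.mk hBD.symm (fun s => CommRingCat.ofHom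
    (RingHom.liftOfSurjective i'.hom H'.surj_i ⟨s.inr.hom, fun x hx => ?_⟩)) (fun s => ?_) (fun s => ?_)
    (fun s m h1 h2 => ?_)⟩⟩
  · have hx' := exists_ker H H' hA hAB hBD ⊤ (gen_top H H' hA hD) hx
    clear hx
    induction hx' using AddSubmonoid.closure_induction with
    | zero => exact map_zero _
    | add u v _ _ hu hv => rw [RingHom.mem_ker] at hu hv ⊢; rw [map_add, hu, hv, add_zero]
    | mem u hu =>
      obtain ⟨r, y, hr, -, rfl⟩ := hu
      rw [RingHom.mem_ker, map_mul]
      have h := congr(($(s.condition)).hom r)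
      simp only [CommRingCat.hom_comp, RingHom.comp_apply] at h
      rw [show s.inr.hom (φB.hom r) = s.inl.hom (i.hom r) from h.symm, show i.hom r = 0 from hr, map_zero, zero_mul]
  · ext d
    obtain ⟨b, rfl⟩ := H.surj_i d
    show RingHom.liftOfSurjective i'.hom H'.surj_i _ (φD (i b)) = _
    rw [show φD (i b) = i'.hom (φB b) from (congr(($hBD).hom b)).symm, RingHom.liftOfRightInverse_comp_apply]
    exact (congr(($(s.condition)).hom b)).symm
  · ext x
    exact RingHom.liftOfRightInverse_comp_apply _ _ (Function.rightInverse_surjInv H'.surj_i) _ x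
  · ext d
    obtain ⟨x, rfl⟩ := H'.surj_i d
    rw [CommRingCat.hom_ofHom, RingHom.liftOfRightInverse_comp_apply]
    exact congr(($h2).hom x)

/-- The piece `A` is cartesian. -/
theorem isPushout_A (H : IsFerrand p.hom q.hom i.hom j.hom) (H' : IsFerrand p'.hom q'.hom i'.hom j'.hom)
    (hA : IsPushout p φA φC p') (hD : IsPushout q φD φC q') (hAB : j ≫ φA = φB ≫ j') (hBD : φB ≫ i' = i ≫ φD) :
    IsPushout j φB φA j' := by
  letI := j.hom.toAlgebra
  letI := φB.hom.toAlgebra
  letI : Algebra B C := (p.hom.comp j.hom).toAlgebra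
  letI : Algebra B A' := (φA.hom.comp j.hom).toAlgebra
  let e : A ⊗[B] B' →ₐ[B] A' := Algebra.TensorProduct.lift (AlgHom.mk φA.hom fun _ => rfl)
    (AlgHom.mk j'.hom fun r => (congr(($hAB).hom r)).symm) (fun _ _ => Commute.all _ _)
  have he : ∀ a y, e (a ⊗ₜ y) = φA a * j' y := fun a y => Algebra.TensorProduct.lift_tmul ..
  have hsurj : Function.Surjective e := by
    intro a'
    have h := gen_top H H' hA hD a'
    induction h using AddSubmonoid.closure_induction with
    | zero => exact ⟨0, map_zero _⟩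
    | add u v _ _ hu hv =>
      obtain ⟨z, rfl⟩ := hu
      obtain ⟨w, rfl⟩ := hv
      exact ⟨z + w, map_add _ _ _⟩
    | mem u hu =>
      obtain ⟨a, y, -, rfl⟩ := hu
      exact ⟨a ⊗ₜ y, he a y⟩
  let pa : A →ₐ[B] C := AlgHom.mk p.hom fun _ => rfl
  let π : A ⊗[B] B' →ₐ[B] C ⊗[B] B' := Algebra.TensorProduct.map pa (AlgHom.id B B')
  have hinj : Function.Injective e := by
    refine (injective_iff_map_eq_zero e).2 fun t ht => ?_
    -- the image of `t` in `C ⊗ B'`
    have hβ : RingHom.ker i'.hom ≤ RingHom.ker (Algebra.TensorProduct.includeRight : B' →ₐ[B] C ⊗[B] B').toRingHom := by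
      intro x hx
      have hx' := exists_ker H H' hA hAB hBD ⊤ (gen_top H H' hA hD) hx
      clear hx
      induction hx' using AddSubmonoid.closure_induction with
      | zero => exact zero_mem _
      | add u v _ _ hu hv => exact add_mem hu hv
      | mem u hu =>
        obtain ⟨r, y, hr, -, rfl⟩ := hu
        show (1 : C) ⊗ₜ[B] (r • y) = 0
        rw [← TensorProduct.smul_tmul, show r • (1 : C) = 0 from ?_, TensorProduct.zero_tmul]
        show p.hom (j.hom r) * 1 = 0
        rw [mul_one, ← H.comm]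
        exact (congrArg q.hom hr).trans (map_zero _)
    let δ : C' ⟶ CommRingCat.of (C ⊗[B] B') :=
      hD.desc (CommRingCat.ofHom (Algebra.TensorProduct.includeLeftRingHom : C →+* C ⊗[B] B'))
        (CommRingCat.ofHom (RingHom.liftOfSurjective i'.hom H'.surj_i ⟨_, hβ⟩)) (by
          ext d
          obtain ⟨b, rfl⟩ := H.surj_i d
          show (q.hom (i.hom b)) ⊗ₜ[B] (1 : B') = RingHom.liftOfSurjective i'.hom H'.surj_i ⟨_, hβ⟩ (φD (i b))
          rw [show φD (i b) = i'.hom (φB b) from (congr(($hBD).hom b)).symm, RingHom.liftOfRightInverse_comp_apply,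
            H.comm]
          exact Algebra.TensorProduct.tmul_one_eq_one_tmul b)
    have hδl : ∀ c, δ (φC c) = c ⊗ₜ 1 := fun c => congr($(hD.inl_desc (CommRingCat.ofHom
      (Algebra.TensorProduct.includeLeftRingHom : C →+* C ⊗[B] B')) _ _).hom c)
    have hδr : ∀ y, δ (q' (i' y)) = 1 ⊗ₜ y := fun y => (congr($(hD.inr_desc _
      (CommRingCat.ofHom (RingHom.liftOfSurjective i'.hom H'.surj_i ⟨_, hβ⟩)) _).hom (i'.hom y))).trans
        (RingHom.liftOfRightInverse_comp_apply _ _ _ _ y)
    have hcomp : ∀ s, π s = δ (p' (e s)) := by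
      intro s
      induction s using TensorProduct.induction_on with
      | zero => simp
      | add u v hu hv => rw [map_add, map_add, hu, hv, map_add, map_add]
      | tmul a y =>
        rw [he, map_mul, map_mul, show p' (φA a) = φC (p a) from (congr(($(hA.w)).hom a)).symm,
          show p' (j' y) = q' (i' y) from (H'.comm y).symm, hδl, hδr, Algebra.TensorProduct.tmul_mul_tmul, mul_one,
          one_mul]
        rfl
    have hπ : π t = 0 := by rw [hcomp, ht, map_zero, map_zero]
    let K := LinearMap.ker pa.toLinearMap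
    obtain ⟨s, hs⟩ := (rTensor_exact B' (LinearMap.exact_subtype_ker_map pa.toLinearMap) H.surj t).1 hπ
    have hs' : ∀ s : K ⊗[B] B', ∃ n : B', i' n = 0 ∧ K.subtype.rTensor B' s = (1 : A) ⊗ₜ n := by
      intro s
      induction s using TensorProduct.induction_on with
      | zero => exact ⟨0, map_zero _, by rw [map_zero, TensorProduct.tmul_zero]⟩
      | add u v hu hv =>
        obtain ⟨n, hn, e₁⟩ := hu
        obtain ⟨m, hm, e₂⟩ := hv
        exact ⟨n + m, by rw [map_add, hn, hm, add_zero], by rw [map_add, e₁, e₂, TensorProduct.tmul_add]⟩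
      | tmul m y =>
        obtain ⟨r, hr, hrm⟩ : (m : A) ∈ j.hom '' (RingHom.ker i.hom : Set B) := ker_p H ▸ m.2
        refine ⟨r • y, ?_, ?_⟩
        · show i'.hom (φB r * y) = 0
          rw [map_mul, show i'.hom (φB r) = φD (i r) from congr(($hBD).hom r), show i r = 0 from hr, map_zero, zero_mul]
        · rw [LinearMap.rTensor_tmul, ← TensorProduct.smul_tmul]
          congr 1
          show (m : A) = j.hom r * 1
          rw [mul_one, hrm]
    obtain ⟨n, hn, hsn⟩ := hs' s
    rw [← hs, hsn] at ht ⊢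
    rw [he, map_one, one_mul] at ht
    rw [H'.ext n 0 (hn.trans (map_zero _).symm) (ht.trans (map_zero _).symm), TensorProduct.tmul_zero]
  refine (CommRingCat.isPushout_tensorProduct B A B').of_iso' (Iso.refl B) (Iso.refl A) (Iso.refl B')
    (RingEquiv.toCommRingCatIso (RingEquiv.ofBijective e ⟨hinj, hsurj⟩)).symm ?_ ?_ ?_ ?_
  all_goals simp only [Iso.refl_hom, Category.id_comp, Category.comp_id]
  · rfl
  · rfl
  · ext a
    symm
    show (RingEquiv.ofBijective e ⟨hinj, hsurj⟩).symm (φA a) = a ⊗ₜ 1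
    apply (RingEquiv.ofBijective e ⟨hinj, hsurj⟩).injective
    rw [RingEquiv.apply_symm_apply]
    show φA a = e (a ⊗ₜ 1)
    rw [he, map_one, mul_one]
  · ext y
    symm
    show (RingEquiv.ofBijective e ⟨hinj, hsurj⟩).symm (j' y) = 1 ⊗ₜ y
    apply (RingEquiv.ofBijective e ⟨hinj, hsurj⟩).injective
    rw [RingEquiv.apply_symm_apply]
    show j' y = e (1 ⊗ₜ y)
    rw [he, map_one, one_mul]

/-- The corner is of finite type. -/
theorem finiteType_cube (H : IsFerrand p.hom q.hom i.hom j.hom) (H' : IsFerrand p'.hom q'.hom i'.hom j'.hom)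
    (hA : IsPushout p φA φC p') (hD : IsPushout q φD φC q') (hAB : j ≫ φA = φB ≫ j') (hBD : φB ≫ i' = i ≫ φD)
    (hfA : φA.hom.FiniteType) (hfD : φD.hom.FiniteType) : φB.hom.FiniteType := by
  classical
  letI := φB.hom.toAlgebra
  letI := φA.hom.toAlgebra
  letI := φD.hom.toAlgebra
  obtain ⟨sA, hsA⟩ := (hfA : Algebra.FiniteType A A').out
  obtain ⟨sD, hsD⟩ := (hfD : Algebra.FiniteType D D').out
  let gen' (S : Finset B') := gen φA j' (Algebra.adjoin B (S : Set B')).toSubring
  have hmono : ∀ {S T : Finset B'}, S ⊆ T → gen' S ≤ gen' T := fun {S T} h =>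
    AddSubmonoid.closure_mono fun z ⟨a, y, hy, hz⟩ =>
      ⟨a, y, Algebra.adjoin_mono (Finset.coe_subset.2 h) hy, hz⟩
  have hfin : ∀ a', ∃ S, a' ∈ gen' S := by
    intro a'
    have h := gen_top H H' hA hD a'
    induction h using AddSubmonoid.closure_induction with
    | zero => exact ⟨∅, zero_mem _⟩
    | add u v _ _ hu hv =>
      obtain ⟨S, hS⟩ := hu
      obtain ⟨T, hT⟩ := hv
      exact ⟨S ∪ T, add_mem (hmono Finset.subset_union_left hS) (hmono Finset.subset_union_right hT)⟩
    | mem u hu =>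
      obtain ⟨a, y, -, rfl⟩ := hu
      exact ⟨{y}, AddSubmonoid.subset_closure ⟨a, y, Algebra.subset_adjoin (Finset.mem_singleton_self y), rfl⟩⟩
  choose SA hSA using hfin
  choose lift hlift using H'.surj_i
  let S : Finset B' := sA.biUnion SA ∪ sD.image lift
  refine ⟨⟨S, ?_⟩⟩
  let R := Algebra.adjoin B (S : Set B')
  have hR : ∀ a', a' ∈ gen' S := by
    intro a'
    have h : a' ∈ Algebra.adjoin A (sA : Set A') := hsA ▸ Algebra.mem_top
    induction h using Algebra.adjoin_induction with
    | mem x hx => exact hmono ((Finset.subset_biUnion_of_mem SA hx).trans Finset.subset_union_left) (hSA x)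
    | algebraMap a => exact AddSubmonoid.subset_closure ⟨a, 1, R.one_mem, by rw [map_one, mul_one]; rfl⟩
    | add u v _ _ hu hv => exact add_mem hu hv
    | mul u v _ _ hu hv => exact gen_mul _ hu hv
  have hD' : ∀ d', ∃ y ∈ R, i' y = d' := by
    intro d'
    have h : d' ∈ Algebra.adjoin D (sD : Set D') := hsD ▸ Algebra.mem_top
    induction h using Algebra.adjoin_induction with
    | mem x hx =>
      exact ⟨lift x, Algebra.subset_adjoin (Finset.mem_union_right _ (Finset.mem_image_of_mem _ hx)), hlift x⟩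
    | algebraMap d =>
      obtain ⟨b, rfl⟩ := H.surj_i d
      exact ⟨φB b, R.algebraMap_mem b, congr(($hBD).hom b)⟩
    | add u v _ _ hu hv =>
      obtain ⟨y, hy, rfl⟩ := hu
      obtain ⟨z, hz, rfl⟩ := hv
      exact ⟨y + z, R.add_mem hy hz, map_add _ _ _⟩
    | mul u v _ _ hu hv =>
      obtain ⟨y, hy, rfl⟩ := hu
      obtain ⟨z, hz, rfl⟩ := hv
      exact ⟨y * z, R.mul_mem hy hz, map_mul _ _ _⟩
  refine top_le_iff.1 fun x _ => ?_
  obtain ⟨y, hy, hxy⟩ := hD' (i' x)
  have hd : x - y ∈ R := by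
    have hxy' := exists_ker H H' hA hAB hBD R.toSubring hR (x := x - y) (by rw [map_sub, hxy, sub_self])
    generalize x - y = w at hxy'
    induction hxy' using AddSubmonoid.closure_induction with
    | zero => exact R.zero_mem
    | add u v _ _ hu hv => exact R.add_mem hu hv
    | mem u hu =>
      obtain ⟨r, z, -, hz, rfl⟩ := hu
      exact R.mul_mem (R.algebraMap_mem r) hz
  have := R.add_mem hd hy
  rwa [sub_add_cancel] at this

end Groth.Agent.Pinch4
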