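import Groth.Agent.Lib.Pinch4.Cube
import Groth.Agent.Lib.Pinch4.Morph
import Groth.Agent.Lib.AssPts11.Basic
import Mathlib

/-!
# Morphisms of pinchings with cartesian faces
-/

set_option autoImplicit false
set_option linter.style.haveILetI false
universe u

set_option backward.isDefEq.respectTransparency.types false

open AlgebraicGeometry CategoryTheory CategoryTheory.Limits TopologicalSpace Groth.Agent.FerrandPush

namespace Groth.Agent.Pinch4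

/-- A square over an affine morphism is cartesian if it is so on rings over an open cover. -/
theorem isPullback_of_isPushout_charts {X X' W W' : Scheme.{u}} {f : X' ⟶ X} {b' : X' ⟶ W'} {b : X ⟶ W} {k : W' ⟶ W}
    [IsAffineHom b] (w : f ≫ b = b' ≫ k)
    (h : ∀ x : W', ∃ (O : W.Opens) (O' : W'.Opens) (_ : IsAffineOpen O) (_ : IsAffineOpen O')
      (e : O' ≤ k ⁻¹ᵁ O) (e₂ : b' ⁻¹ᵁ O' ≤ f ⁻¹ᵁ b ⁻¹ᵁ O), x ∈ O' ∧ IsAffineOpen (b' ⁻¹ᵁ O') ∧
      IsPushout (b.app O) (k.appLE O O' e) (f.appLE (b ⁻¹ᵁ O) (b' ⁻¹ᵁ O') e₂) (b'.app O')) :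
    IsPullback f b' b k := by
  choose O O' hO hO' e e₂ hx haff hpo using h
  haveI : IsAffineHom (pullback.snd b k) := MorphismProperty.pullback_snd _ _ inferInstance
  let d : X' ⟶ pullback b k := pullback.lift f b' w
  have hd1 : d ≫ pullback.fst b k = f := pullback.lift_fst _ _ _
  have hd2 : d ≫ pullback.snd b k = b' := pullback.lift_snd _ _ _
  have hcov : ⨆ x, (pullback.snd b k) ⁻¹ᵁ O' x = ⊤ := by
    refine top_le_iff.1 fun z _ => Opens.mem_iSup.2 ⟨pullback.snd b k z, hx _⟩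
  have key : ∀ x, IsIso (d ∣_ (pullback.snd b k) ⁻¹ᵁ O' x) := by
    intro x
    let Q := (pullback.snd b k) ⁻¹ᵁ O' x
    have hQaff : IsAffineOpen Q := (hO' x).preimage _
    have hdQ : d ⁻¹ᵁ Q = b' ⁻¹ᵁ O' x := by
      show d ⁻¹ᵁ (pullback.snd b k) ⁻¹ᵁ O' x = _
      rw [← Scheme.Hom.comp_preimage, hd2]
    have hQeq : Q = (pullback.fst b k) ⁻¹ᵁ (b ⁻¹ᵁ O x) ⊓ (pullback.snd b k) ⁻¹ᵁ O' x := by
      refine (inf_eq_right.2 fun z hz => ?_).symm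
      show b (pullback.fst b k z) ∈ O x
      rw [← Scheme.Hom.comp_apply, pullback.condition, Scheme.Hom.comp_apply]
      exact e x hz
    have pQ := FlatH4.isPushout_sections (IsPullback.of_hasPullback b k) (e x) le_rfl hQeq (hO x) (hO' x) ((hO x).preimage b)
    simp only [← Scheme.Hom.app_eq_appLE] at pQ
    have hle : b' ⁻¹ᵁ O' x ≤ d ⁻¹ᵁ Q := hdQ.ge
    have hiso : IsIso (d.appLE Q (b' ⁻¹ᵁ O' x) hle) := by
      have : d.appLE Q (b' ⁻¹ᵁ O' x) hle = (pQ.isoIsPushout _ _ (hpo x)).hom := by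
        refine pQ.hom_ext ?_ ?_
        · rw [IsPushout.inl_isoIsPushout_hom, Scheme.Hom.appLE_comp_appLE]
          simp only [hd1]
        · rw [IsPushout.inr_isoIsPushout_hom, Scheme.Hom.appLE_comp_appLE]
          simp only [hd2, Scheme.Hom.app_eq_appLE]
      rw [this]
      infer_instance
    have key2 : ∀ (U : X'.Opens) (hU : U ≤ d ⁻¹ᵁ Q), U = d ⁻¹ᵁ Q → IsIso (d.appLE Q U hU) → IsIso (d.app Q) := by
      rintro U hU rfl h'
      rwa [Scheme.Hom.app_eq_appLE]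
    haveI := key2 _ hle hdQ.symm hiso
    haveI : IsAffine Q.toScheme := hQaff
    haveI : IsAffine (d ⁻¹ᵁ Q).toScheme := hdQ ▸ haff x
    have happ : IsIso (d ∣_ Q).appTop := by
      have h' : ∀ V, V = Q → IsIso (d.app V) := by rintro V rfl; infer_instance
      haveI := h' _ (Scheme.Opens.ι_image_top Q)
      rw [morphismRestrict_appTop]
      haveI : ∀ {U V : X'.Opens} (e : V = U), IsIso (X'.presheaf.map (eqToHom e).op) := fun e => by subst e; simp; infer_instance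
      exact IsIso.comp_isIso' (h' _ (Scheme.Opens.ι_image_top Q)) (this _)
    exact (HasAffineProperty.iff_of_isAffine (P := MorphismProperty.isomorphisms Scheme)).2 ⟨inferInstance, happ⟩
  haveI : IsIso d := by
    rw [← MorphismProperty.isomorphisms.iff,
      IsZariskiLocalAtTarget.iff_of_iSup_eq_top (P := MorphismProperty.isomorphisms Scheme) _ hcov]
    exact fun x => key x
  exact IsPullback.of_iso_pullback ⟨w⟩ (asIso d) hd1 hd2

/-- Discrete fibres descend along integral morphisms. -/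
theorem isDiscrete_preimage_of_integral {X X' W W' : Scheme.{u}} {f : X' ⟶ X} {b' : X' ⟶ W'} {b : X ⟶ W} {k : W' ⟶ W}
    (h : IsPullback f b' b k) [IsIntegralHom b] [LocallyQuasiFinite f] (x : X) : _root_.IsDiscrete (k ⁻¹' {b x}) := by
  haveI : IsIntegralHom b' := MorphismProperty.of_isPullback h inferInstance
  have hw : ∀ z, k (b' z) = b (f z) := fun z => by
    rw [← Scheme.Hom.comp_apply, ← h.w, Scheme.Hom.comp_apply]
  have hpt : ∀ w' ∈ k ⁻¹' {b x}, ∃ z, f z = x ∧ b' z = w' := by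
    intro w' hw'
    obtain ⟨z, hz₁, hz₂⟩ := Scheme.Pullback.exists_preimage_pullback (f := b) (g := k) x w' hw'.symm
    refine ⟨h.isoPullback.inv z, ?_, ?_⟩
    · rw [← Scheme.Hom.comp_apply, h.isoPullback_inv_fst, hz₁]
    · rw [← Scheme.Hom.comp_apply, h.isoPullback_inv_snd, hz₂]
  rw [isDiscrete_iff_forall_mem_exists_isOpen]
  intro w' hw'
  -- the closure of the rest of the fibre misses `w'`
  let F : Set X' := f ⁻¹' {x} ∩ (b' ⁻¹' {w'})ᶜ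
  refine ⟨(b' '' closure F)ᶜ, (b'.isClosedMap _ isClosed_closure).isOpen_compl, ?_⟩
  apply le_antisymm
  · rintro v ⟨hv, hvk⟩
    by_contra hne
    obtain ⟨z, hz₁, hz₂⟩ := hpt v hvk
    exact hv ⟨z, subset_closure ⟨hz₁, fun h' => hne (hz₂.symm.trans h')⟩, hz₂⟩
  · rintro v rfl
    refine ⟨?_, hw'⟩
    rintro ⟨z, hz, hzw⟩
    have hfz : f z = x := by
      have h1 : f z ∈ closure ({x} : Set X) := map_mem_closure f.continuous hz fun y hy => hy.1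
      have hsp : x ⤳ f z := specializes_iff_mem_closure.2 h1
      refine AssPts11.eq_of_specializes_of_isIntegralHom b hsp ?_
      rw [← hw, hzw]
      exact (Set.mem_singleton_iff.1 hw').symm
    have hdisc : _root_.IsDiscrete (f ⁻¹' {x}) := f.isDiscrete_preimage_singleton x
    obtain ⟨U, hU, hUeq⟩ := (isDiscrete_iff_forall_mem_exists_isOpen.1 hdisc) z hfz
    have hzU : z ∈ U := (hUeq.ge rfl).1
    obtain ⟨y, hyU, hyf, hyw⟩ := mem_closure_iff.1 hz U hU hzU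
    exact hyw ((hUeq.le ⟨hyU, hyf⟩ : y = z) ▸ hzw)

variable {X Y Z X' Y' Z' W W' : Scheme.{u}} {i : Z ⟶ X} {j : Z ⟶ Y} {b : X ⟶ W} {a : Y ⟶ W}
  {i' : Z' ⟶ X'} {j' : Z' ⟶ Y'} {b' : X' ⟶ W'} {a' : Y' ⟶ W'} {f : X' ⟶ X} {g : Y' ⟶ Y} {h : Z' ⟶ Z} {k : W' ⟶ W}

/-- Sections of a morphism of pinchings over given charts form a cube. -/
theorem cube_sections (hX : IsPullback h i' i f) (hY : IsPullback h j' j g) (kb : b' ≫ k = f ≫ b)
    (ka : a' ≫ k = g ≫ a) (w' : i' ≫ b' = j' ≫ a') {O : W.Opens} {O' : W'.Opens} (c : Chart i j b a O)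
    (c' : Chart i' j' b' a' O') (e : O' ≤ k ⁻¹ᵁ O) :
    ∃ (eX : b' ⁻¹ᵁ O' ≤ f ⁻¹ᵁ b ⁻¹ᵁ O) (eY : a' ⁻¹ᵁ O' ≤ g ⁻¹ᵁ a ⁻¹ᵁ O)
      (eZ : i' ⁻¹ᵁ b' ⁻¹ᵁ O' ≤ h ⁻¹ᵁ i ⁻¹ᵁ b ⁻¹ᵁ O),
      IsPushout (i.app (b ⁻¹ᵁ O)) (f.appLE (b ⁻¹ᵁ O) (b' ⁻¹ᵁ O') eX) (h.appLE _ _ eZ) (i'.app (b' ⁻¹ᵁ O')) ∧
      IsPushout (j.appLE (a ⁻¹ᵁ O) _ c.le) (g.appLE (a ⁻¹ᵁ O) (a' ⁻¹ᵁ O') eY) (h.appLE _ _ eZ)
        (j'.appLE (a' ⁻¹ᵁ O') _ c'.le) ∧
      b.app O ≫ f.appLE (b ⁻¹ᵁ O) (b' ⁻¹ᵁ O') eX = k.appLE O O' e ≫ b'.app O' ∧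
      k.appLE O O' e ≫ a'.app O' = a.app O ≫ g.appLE (a ⁻¹ᵁ O) (a' ⁻¹ᵁ O') eY := by
  have eX : b' ⁻¹ᵁ O' ≤ f ⁻¹ᵁ b ⁻¹ᵁ O := by
    rw [← Scheme.Hom.comp_preimage f b, ← kb, Scheme.Hom.comp_preimage]
    exact b'.preimage_mono e
  have eY : a' ⁻¹ᵁ O' ≤ g ⁻¹ᵁ a ⁻¹ᵁ O := by
    rw [← Scheme.Hom.comp_preimage g a, ← ka, Scheme.Hom.comp_preimage]
    exact a'.preimage_mono e
  have eZ : i' ⁻¹ᵁ b' ⁻¹ᵁ O' ≤ h ⁻¹ᵁ i ⁻¹ᵁ b ⁻¹ᵁ O := by
    rw [← Scheme.Hom.comp_preimage h i, hX.w, Scheme.Hom.comp_preimage]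
    exact i'.preimage_mono eX
  have heq' : i' ⁻¹ᵁ b' ⁻¹ᵁ O' = j' ⁻¹ᵁ a' ⁻¹ᵁ O' := by rw [← Scheme.Hom.comp_preimage, w', Scheme.Hom.comp_preimage]
  have pX := FlatH4.isPushout_sections hX eX le_rfl (inf_eq_right.2 eZ).symm c.affX c'.affX c.affZ
  have pY := FlatH4.isPushout_sections hY eY c.le (UY := i' ⁻¹ᵁ b' ⁻¹ᵁ O') (by
    rw [← heq']; exact (inf_eq_right.2 eZ).symm) c.affY c'.affY c.affZ
  simp only [← Scheme.Hom.app_eq_appLE] at pX
  refine ⟨eX, eY, eZ, pX, pY, ?_, ?_⟩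
  · rw [Scheme.Hom.app_eq_appLE, Scheme.Hom.app_eq_appLE, Scheme.Hom.appLE_comp_appLE, Scheme.Hom.appLE_comp_appLE]
    simp only [kb]
  · rw [Scheme.Hom.app_eq_appLE, Scheme.Hom.app_eq_appLE, Scheme.Hom.appLE_comp_appLE, Scheme.Hom.appLE_comp_appLE]
    simp only [ka]

/-- Sections of a morphism of pinchings over charts form a cube. -/
theorem exists_cube (H : IsPinch i j b a) (H' : IsPinch i' j' b' a') (hX : IsPullback h i' i f)
    (hY : IsPullback h j' j g) (kb : b' ≫ k = f ≫ b) (ka : a' ≫ k = g ≫ a) (x : W') :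
    ∃ (O : W.Opens) (O' : W'.Opens) (c : Chart i j b a O) (c' : Chart i' j' b' a' O') (e : O' ≤ k ⁻¹ᵁ O)
      (eX : b' ⁻¹ᵁ O' ≤ f ⁻¹ᵁ b ⁻¹ᵁ O) (eY : a' ⁻¹ᵁ O' ≤ g ⁻¹ᵁ a ⁻¹ᵁ O)
      (eZ : i' ⁻¹ᵁ b' ⁻¹ᵁ O' ≤ h ⁻¹ᵁ i ⁻¹ᵁ b ⁻¹ᵁ O), x ∈ O' ∧
      IsPushout (i.app (b ⁻¹ᵁ O)) (f.appLE (b ⁻¹ᵁ O) (b' ⁻¹ᵁ O') eX) (h.appLE _ _ eZ) (i'.app (b' ⁻¹ᵁ O')) ∧
      IsPushout (j.appLE (a ⁻¹ᵁ O) _ c.le) (g.appLE (a ⁻¹ᵁ O) (a' ⁻¹ᵁ O') eY) (h.appLE _ _ eZ)
        (j'.appLE (a' ⁻¹ᵁ O') _ c'.le) ∧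
      b.app O ≫ f.appLE (b ⁻¹ᵁ O) (b' ⁻¹ᵁ O') eX = k.appLE O O' e ≫ b'.app O' ∧
      k.appLE O O' e ≫ a'.app O' = a.app O ≫ g.appLE (a ⁻¹ᵁ O) (a' ⁻¹ᵁ O') eY := by
  obtain ⟨O, hxO, c⟩ := H.cover (k x)
  obtain ⟨O', hx, e, c'⟩ := H'.exists_chart_le x (k ⁻¹ᵁ O) hxO
  obtain ⟨eX, eY, eZ, h'⟩ := cube_sections hX hY kb ka H'.w c c' e
  exact ⟨O, O', c, c', e, eX, eY, eZ, hx, h'⟩

/-- A morphism of pinchings with cartesian faces. -/
theorem cube (H : IsPinch i j b a) (H' : IsPinch i' j' b' a') [IsClosedImmersion i] [IsIntegralHom j]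
    (hX : IsPullback h i' i f) (hY : IsPullback h j' j g) (kb : b' ≫ k = f ≫ b) (ka : a' ≫ k = g ≫ a) :
    IsPullback f b' b k ∧ IsPullback g a' a k := by
  haveI := H.isIntegralHom_a
  haveI := H.isClosedImmersion_b
  constructor
  · refine isPullback_of_isPushout_charts kb.symm fun x => ?_
    obtain ⟨O, O', c, c', e, eX, eY, eZ, hx, pX, pY, hb, ha⟩ := exists_cube H H' hX hY kb ka x
    exact ⟨O, O', c.affO, c'.affO, e, eX, hx, c'.affX, isPushout_A c.ferrand c'.ferrand pX pY hb ha⟩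
  · refine isPullback_of_isPushout_charts ka.symm fun x => ?_
    obtain ⟨O, O', c, c', e, eX, eY, eZ, hx, pX, pY, hb, ha⟩ := exists_cube H H' hX hY kb ka x
    exact ⟨O, O', c.affO, c'.affO, e, eY, hx, c'.affY, isPushout_D c.ferrand c'.ferrand pX pY hb ha⟩

/-- A morphism of pinchings with cartesian faces of finite type is of finite type. -/
theorem cube_lft (H : IsPinch i j b a) (H' : IsPinch i' j' b' a') (hX : IsPullback h i' i f) (hY : IsPullback h j' j g)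
    (kb : b' ≫ k = f ≫ b) (ka : a' ≫ k = g ≫ a) [LocallyOfFiniteType f] [LocallyOfFiniteType g] :
    LocallyOfFiniteType k := by
  refine (HasRingHomProperty.iff_exists_appLE (P := @LocallyOfFiniteType)
    (RingHom.finiteType_stableUnderComposition.stableUnderCompositionWithLocalizationAway
      RingHom.finiteType_holdsForLocalizationAway).1).2 fun x => ?_
  obtain ⟨O, O', c, c', e, eX, eY, eZ, hx, pX, pY, hb, ha⟩ := exists_cube H H' hX hY kb ka x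
  exact ⟨⟨O, c.affO⟩, ⟨O', c'.affO⟩, hx, e, finiteType_cube c.ferrand c'.ferrand pX pY hb ha
    (f.finiteType_appLE c.affX c'.affX eX) (g.finiteType_appLE c.affY c'.affY eY)⟩

/-- A morphism of pinchings with locally quasi-finite cartesian faces is locally quasi-finite. -/
theorem cube_lqf (H : IsPinch i j b a) (H' : IsPinch i' j' b' a') [IsClosedImmersion i] [IsIntegralHom j]
    (hX : IsPullback h i' i f) (hY : IsPullback h j' j g) (kb : b' ≫ k = f ≫ b) (ka : a' ≫ k = g ≫ a)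
    [LocallyOfFiniteType f] [LocallyOfFiniteType g] [LocallyQuasiFinite f] [LocallyQuasiFinite g] :
    LocallyQuasiFinite k := by
  haveI := H.isIntegralHom_a
  haveI := H.isClosedImmersion_b
  haveI := cube_lft H H' hX hY kb ka
  obtain ⟨hb, ha⟩ := cube H H' hX hY kb ka
  rw [locallyQuasiFinite_iff_isDiscrete_preimage_singleton]
  intro w
  rcases H.covers w with ⟨x, rfl⟩ | ⟨y, rfl⟩
  · exact isDiscrete_preimage_of_integral hb x
  · exact isDiscrete_preimage_of_integral ha y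

end Groth.Agent.Pinch4
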