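import Groth.Agent.Lib.Pinch4.BaseChange
import Groth.Agent.Lib.MilnorSqH7.Alg
import Mathlib

/-!
# Morphisms between pinchings of two closed immersions
-/

set_option autoImplicit false
set_option linter.style.haveILetI false
universe u

set_option backward.isDefEq.respectTransparency.types false

open AlgebraicGeometry CategoryTheory CategoryTheory.Limits TopologicalSpace Groth.Agent.FerrandPush TensorProduct

namespace Groth.Agent.Pinch4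

variable {X Y Z P : Scheme.{u}} {i : Z ⟶ X} {j : Z ⟶ Y} {a : X ⟶ P} {b : Y ⟶ P}

/-- Pinchings of two closed immersions are symmetric. -/
theorem IsPinch.flip [IsClosedImmersion i] [IsClosedImmersion j] (H : IsPinch i j a b) : IsPinch j i b a := by
  obtain ⟨P', b', a', H'⟩ := exists_isPinch (cond_of_closed (i := j) (j := i))
  exact isPinch_of_isPushout H' H.isPushout.flip

variable {X' Y' Z' P' : Scheme.{u}} {i' : Z' ⟶ X'} {j' : Z' ⟶ Y'} {a' : X' ⟶ P'} {b' : Y' ⟶ P'}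
  {f : X' ⟶ X} {g : Y' ⟶ Y} {c : Z' ⟶ Z} {h : P' ⟶ P}

/-- The pieces of a morphism of pinchings of closed immersions are its base changes. -/
theorem IsPinch.isPullback_of [IsClosedImmersion i] [IsClosedImmersion j] (H : IsPinch i j a b)
    (H' : IsPinch i' j' a' b') (hX : IsPullback i' c f i) (hY : IsPullback j' c g j) (ha : a' ≫ h = f ≫ a)
    (hb : b' ≫ h = g ≫ b) : IsPullback a' f h a := by
  haveI : IsClosedImmersion i' := MorphismProperty.of_isPullback hX.flip inferInstance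
  haveI : IsClosedImmersion j' := MorphismProperty.of_isPullback hY.flip inferInstance
  haveI := H.flip.isClosedImmersion_b
  haveI := H'.flip.isClosedImmersion_b
  haveI : IsClosedImmersion (pullback.fst h a) := MorphismProperty.pullback_fst _ _ inferInstance
  let d : X' ⟶ pullback h a := pullback.lift a' f ha
  choose O hxO cO using H.cover
  choose O' hxO' hO' cO' using fun x' : P' => H'.exists_chart_le x' (h ⁻¹ᵁ O (h x')) (hxO (h x'))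
  have hker : a'.ker = (pullback.fst h a).ker := by
    refine Scheme.IdealSheafData.ext_of_iSup_eq_top (fun x' => ⟨O' x', (cO' x').affO⟩)
      (top_le_iff.1 fun x' _ => Opens.mem_iSup.2 ⟨x', hxO' x'⟩) fun x' => ?_
    let O₁ := O (h x')
    let O₂ := O' x'
    have c₁ : Chart i j a b O₁ := cO _
    have c₂ : Chart i' j' a' b' O₂ := cO' _
    have hle : O₂ ≤ h ⁻¹ᵁ O₁ := hO' _
    haveI : IsClosedImmersion (a ∣_ O₁) := IsZariskiLocalAtTarget.restrict (P := @IsClosedImmersion) inferInstance _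
    rw [Scheme.Hom.ker_apply, Scheme.Hom.ker_apply,
      CI2.ker_app_of_isPullback (i := a) (g := h) (i' := pullback.fst h a) (g' := pullback.snd h a)
        (IsPullback.of_hasPullback h a).flip c₁.affO c₂.affO hle]
    let ψ := (h.appLE O₁ O₂ hle).hom
    have hge : (RingHom.ker (a.app O₁).hom).map ψ ≤ RingHom.ker (a'.app O₂).hom := by
      rw [Ideal.map_le_iff_le_comap]
      intro r hr
      have hXle : a' ⁻¹ᵁ O₂ ≤ f ⁻¹ᵁ a ⁻¹ᵁ O₁ := by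
        rw [← Scheme.Hom.comp_preimage, ← ha, Scheme.Hom.comp_preimage]
        exact a'.preimage_mono hle
      have hsq : h.appLE O₁ O₂ hle ≫ a'.app O₂ = a.app O₁ ≫ f.appLE (a ⁻¹ᵁ O₁) (a' ⁻¹ᵁ O₂) hXle := by
        simp only [Scheme.Hom.app_eq_appLE]
        exact sq_appLE ha _ _ _ _
      show (h.appLE O₁ O₂ hle ≫ a'.app O₂).hom r = 0
      rw [hsq]
      show (f.appLE _ _ hXle).hom ((a.app O₁).hom r) = 0
      rw [RingHom.mem_ker.1 hr, map_zero]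
    refine le_antisymm (fun r hr => ?_) hge
    have hYle : b' ⁻¹ᵁ O₂ ≤ g ⁻¹ᵁ b ⁻¹ᵁ O₁ := by
      rw [← Scheme.Hom.comp_preimage, ← hb, Scheme.Hom.comp_preimage]
      exact b'.preimage_mono hle
    let φ := (g.appLE (b ⁻¹ᵁ O₁) (b' ⁻¹ᵁ O₂) hYle).hom
    have eqZ : i' ⁻¹ᵁ a' ⁻¹ᵁ O₂ = j' ⁻¹ᵁ b' ⁻¹ᵁ O₂ := by
      rw [← Scheme.Hom.comp_preimage, H'.w, Scheme.Hom.comp_preimage]
    have eqZ₁ : i ⁻¹ᵁ a ⁻¹ᵁ O₁ = j ⁻¹ᵁ b ⁻¹ᵁ O₁ := by
      rw [← Scheme.Hom.comp_preimage, H.w, Scheme.Hom.comp_preimage]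
    have key : ∀ {V W : Scheme.{u}} (k : V ⟶ W) (U : W.Opens) (U' : V.Opens) (e : U' ≤ k ⁻¹ᵁ U), U' = k ⁻¹ᵁ U →
        RingHom.ker (k.appLE U U' e).hom = RingHom.ker (k.app U).hom := by
      rintro V W k U U' e rfl
      rw [← Scheme.Hom.app_eq_appLE]
    haveI : IsClosedImmersion (j ∣_ (b ⁻¹ᵁ O₁)) := IsZariskiLocalAtTarget.restrict (P := @IsClosedImmersion) inferInstance _
    have h1 : (b'.app O₂).hom r ∈ (RingHom.ker (j.app (b ⁻¹ᵁ O₁)).hom).map φ := by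
      rw [← CI2.ker_app_of_isPullback (i := j) (g := g) (i' := j') (g' := c) hY.flip c₁.affY c₂.affY hYle,
        ← key j' (b' ⁻¹ᵁ O₂) _ c₂.le eqZ, RingHom.mem_ker, c₂.ferrand.comm, RingHom.mem_ker.1 hr, map_zero]
    have h2 : RingHom.ker (j.app (b ⁻¹ᵁ O₁)).hom ≤ (RingHom.ker (a.app O₁).hom).map (b.app O₁).hom := by
      intro x hx
      rw [← key j (b ⁻¹ᵁ O₁) _ c₁.le eqZ₁] at hx
      obtain ⟨s, hs1, hs2⟩ := c₁.ferrand.exist x 0 (by rw [map_zero]; exact hx)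
      exact hs1 ▸ Ideal.mem_map_of_mem _ (RingHom.mem_ker.2 hs2)
    have h3 : (b'.app O₂).hom r ∈ ((RingHom.ker (a.app O₁).hom).map ψ).map (b'.app O₂).hom := by
      have hsq : b.app O₁ ≫ g.appLE (b ⁻¹ᵁ O₁) (b' ⁻¹ᵁ O₂) hYle = h.appLE O₁ O₂ hle ≫ b'.app O₂ := by
        simp only [Scheme.Hom.app_eq_appLE]
        exact sq_appLE hb.symm _ _ _ _
      have h4 := Ideal.map_mono (f := φ) h2 h1
      rw [Ideal.map_map] at h4 ⊢
      rwa [show φ.comp (b.app O₁).hom = (b'.app O₂).hom.comp ψ from congrArg CommRingCat.Hom.hom hsq] at h4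
    obtain ⟨r', hr', he⟩ := (Ideal.mem_map_iff_of_surjective _ c₂.ferrand.surj_i).1 h3
    have : r = r' := c₂.ferrand.ext _ _ he.symm
      ((RingHom.mem_ker.1 hr).trans (RingHom.mem_ker.1 (hge hr')).symm)
    exact this ▸ hr'
  haveI : IsIso d := IsClosedImmersion.isIso_of_ker_eq a' (pullback.fst h a) d (pullback.lift_fst _ _ _) hker
  exact IsPullback.of_iso_pullback ⟨ha⟩ (asIso d) (pullback.lift_fst _ _ _) (pullback.lift_snd _ _ _)

/-- Properties of the induced map of pinchings follow from those of the two pieces. -/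
theorem IsPinch.exists_descend [IsClosedImmersion i] [IsClosedImmersion j] (H : IsPinch i j a b)
    (H' : IsPinch i' j' a' b') (hX : IsPullback i' c f i) (hY : IsPullback j' c g j) (ha : a' ≫ h = f ≫ a)
    (hb : b' ≫ h = g ≫ b)
    (Q : ∀ {R S : Type u} [CommRing R] [CommRing S], (R →+* S) → Prop) (hiso : RingHom.RespectsIso Q)
    (hQ : ∀ (R B A' A D : Type u) [CommRing R] [CommRing B] [CommRing A'] [CommRing A] [CommRing D]
      [Algebra R B] [Algebra R A'] [Algebra B A] [Algebra A' A] [Algebra R A] [IsScalarTower R B A]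
      [IsScalarTower R A' A] [Algebra R D], EtMil.IsFibreSquare R B A' A →
      Q (algebraMap B (B ⊗[R] D)) → Q (algebraMap A' (A' ⊗[R] D)) → Q (algebraMap R D))
    (hf : ∀ {U : X.Opens} (_ : IsAffineOpen U) {U' : X'.Opens} (_ : IsAffineOpen U') (e : U' ≤ f ⁻¹ᵁ U),
      Q (f.appLE U U' e).hom)
    (hg : ∀ {V : Y.Opens} (_ : IsAffineOpen V) {V' : Y'.Opens} (_ : IsAffineOpen V') (e : V' ≤ g ⁻¹ᵁ V),
      Q (g.appLE V V' e).hom) (x' : P') :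
    ∃ (O : P.affineOpens) (O' : P'.affineOpens) (_ : x' ∈ O'.1) (e : O'.1 ≤ h ⁻¹ᵁ O.1), Q (h.appLE O.1 O'.1 e).hom := by
  haveI : IsClosedImmersion i' := MorphismProperty.of_isPullback hX.flip inferInstance
  haveI : IsClosedImmersion j' := MorphismProperty.of_isPullback hY.flip inferInstance
  have hpX := H.isPullback_of H' hX hY ha hb
  have hpY := H.flip.isPullback_of H'.flip hY hX hb ha
  obtain ⟨O, hxO, c₁⟩ := H.cover (h x')
  obtain ⟨O', hxO', hle, c₂⟩ := H'.exists_chart_le x' (h ⁻¹ᵁ O) hxO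
  refine ⟨⟨O, c₁.affO⟩, ⟨O', c₂.affO⟩, hxO', hle, ?_⟩
  let pa := (i.app (a ⁻¹ᵁ O)).hom
  let qa := (j.appLE (b ⁻¹ᵁ O) (i ⁻¹ᵁ a ⁻¹ᵁ O) c₁.le).hom
  letI : Algebra Γ(P, O) Γ(P', O') := (h.appLE O O' hle).hom.toAlgebra
  letI : Algebra Γ(P, O) Γ(Y, b ⁻¹ᵁ O) := (b.app O).hom.toAlgebra
  letI : Algebra Γ(P, O) Γ(X, a ⁻¹ᵁ O) := (a.app O).hom.toAlgebra
  letI : Algebra Γ(Y, b ⁻¹ᵁ O) Γ(Z, i ⁻¹ᵁ a ⁻¹ᵁ O) := qa.toAlgebra
  letI : Algebra Γ(X, a ⁻¹ᵁ O) Γ(Z, i ⁻¹ᵁ a ⁻¹ᵁ O) := pa.toAlgebra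
  letI : Algebra Γ(P, O) Γ(Z, i ⁻¹ᵁ a ⁻¹ᵁ O) := (pa.comp (a.app O).hom).toAlgebra
  haveI : IsScalarTower Γ(P, O) Γ(X, a ⁻¹ᵁ O) Γ(Z, i ⁻¹ᵁ a ⁻¹ᵁ O) := IsScalarTower.of_algebraMap_eq fun _ => rfl
  haveI : IsScalarTower Γ(P, O) Γ(Y, b ⁻¹ᵁ O) Γ(Z, i ⁻¹ᵁ a ⁻¹ᵁ O) :=
    IsScalarTower.of_algebraMap_eq fun x => (c₁.ferrand.comm x).symm
  have hsq : EtMil.IsFibreSquare Γ(P, O) Γ(Y, b ⁻¹ᵁ O) Γ(X, a ⁻¹ᵁ O) Γ(Z, i ⁻¹ᵁ a ⁻¹ᵁ O) :=
    ⟨c₁.ferrand.surj, fun y x e => by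
      obtain ⟨r, hr1, hr2⟩ := c₁.ferrand.exist y x e
      exact ⟨r, ⟨hr1, hr2⟩, fun r' hr' => c₁.ferrand.ext r' r (hr'.1.trans hr1.symm) (hr'.2.trans hr2.symm)⟩⟩
  refine hQ _ _ _ _ Γ(P', O') hsq ?_ ?_
  all_goals
    have main : ∀ {V V' : Scheme.{u}} (a₁ : V ⟶ P) (a₂ : V' ⟶ P') (f₁ : V' ⟶ V), IsPullback a₂ f₁ h a₁ →
        ∀ (hV : IsAffineOpen (a₁ ⁻¹ᵁ O)) (e : a₂ ⁻¹ᵁ O' ≤ f₁ ⁻¹ᵁ a₁ ⁻¹ᵁ O),
          Q (f₁.appLE (a₁ ⁻¹ᵁ O) (a₂ ⁻¹ᵁ O') e).hom →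
            ∀ [Algebra Γ(P, O) Γ(V, a₁ ⁻¹ᵁ O)], algebraMap Γ(P, O) Γ(V, a₁ ⁻¹ᵁ O) = (a₁.app O).hom →
              Q (algebraMap Γ(V, a₁ ⁻¹ᵁ O) (Γ(V, a₁ ⁻¹ᵁ O) ⊗[Γ(P, O)] Γ(P', O'))) := by
      intro V V' a₁ a₂ f₁ hp hV e hQ' inst halg
      obtain rfl : inst = (a₁.app O).hom.toAlgebra := Algebra.algebra_ext _ _ fun r => RingHom.congr_fun halg r
      letI := (a₁.app O).hom.toAlgebra
      have hpo := FlatH4.isPushout_sections hp (le_rfl : a₁ ⁻¹ᵁ O ≤ a₁ ⁻¹ᵁ O) hle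
        (inf_eq_left.2 e).symm c₁.affO hV c₂.affO
      rw [← Scheme.Hom.app_eq_appLE, ← Scheme.Hom.app_eq_appLE] at hpo
      obtain ⟨eq, hb', he⟩ := exists_bij hpo.flip
      let e' := RingEquiv.ofBijective eq hb'
      have h5 := hiso.1 _ e'.symm hQ'
      convert h5 using 1
      refine RingHom.ext fun x => e'.injective ?_
      show eq (x ⊗ₜ 1) = e' (e'.symm _)
      rw [e'.apply_symm_apply, he, map_one, mul_one]
  · exact main b b' g hpY c₁.affY (by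
      rw [← Scheme.Hom.comp_preimage, ← hb, Scheme.Hom.comp_preimage]; exact b'.preimage_mono hle)
      (hg c₁.affY c₂.affY _) rfl
  · exact main a a' f hpX c₁.affX (by
      rw [← Scheme.Hom.comp_preimage, ← ha, Scheme.Hom.comp_preimage]; exact a'.preimage_mono hle)
      (hf c₁.affX c₂.affX _) rfl

end Groth.Agent.Pinch4
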