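import Groth.Agent.Lib.Pinch4.Basic
import Mathlib

/-!
# Transporting pinching squares along open immersions
-/

set_option autoImplicit false
set_option linter.style.haveILetI false
universe u

set_option backward.isDefEq.respectTransparency.types false

open AlgebraicGeometry CategoryTheory CategoryTheory.Limits TopologicalSpace Groth.Agent.FerrandPush

namespace Groth.Agent.Pinch4

theorem sq_appLE {A B C D : Scheme.{u}} {f : A ⟶ B} {g : B ⟶ D} {f' : A ⟶ C} {g' : C ⟶ D} (h : f ≫ g = f' ≫ g')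
    {UD : D.Opens} {UB : B.Opens} {UC : C.Opens} {UA : A.Opens} (eB : UB ≤ g ⁻¹ᵁ UD) (eC : UC ≤ g' ⁻¹ᵁ UD)
    (eA : UA ≤ f ⁻¹ᵁ UB) (eA' : UA ≤ f' ⁻¹ᵁ UC) :
    g.appLE UD UB eB ≫ f.appLE UB UA eA = g'.appLE UD UC eC ≫ f'.appLE UC UA eA' := by
  rw [Scheme.Hom.appLE_comp_appLE, Scheme.Hom.appLE_comp_appLE]
  simp only [h]

theorem bij_appLE {V W : Scheme.{u}} (f : V ⟶ W) [IsOpenImmersion f] {U : W.Opens} {U' : V.Opens}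
    (hU : U ≤ f.opensRange) (e : U' = f ⁻¹ᵁ U) : Function.Bijective (f.appLE U U' e.le).hom := by
  subst e
  rw [← Scheme.Hom.app_eq_appLE]
  haveI := f.isIso_app U hU
  exact ConcreteCategory.bijective_of_isIso (f.app U)

theorem isAffineOpen_preimage_iff {V W : Scheme.{u}} (f : V ⟶ W) [IsOpenImmersion f] {U : W.Opens}
    (hU : U ≤ f.opensRange) : IsAffineOpen (f ⁻¹ᵁ U) ↔ IsAffineOpen U := by
  rw [← Scheme.Hom.isAffineOpen_iff_of_isOpenImmersion f (U := f ⁻¹ᵁ U),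
    Scheme.Hom.image_preimage_eq_opensRange_inf, inf_eq_right.2 hU]

section

variable {X Y Z P X' Y' Z' P' : Scheme.{u}} {i : Z ⟶ X} {j : Z ⟶ Y} {a : X ⟶ P} {b : Y ⟶ P}
  {i' : Z' ⟶ X'} {j' : Z' ⟶ Y'} {a' : X' ⟶ P'} {b' : Y' ⟶ P'}
  (eX : X' ⟶ X) (eY : Y' ⟶ Y) (eZ : Z' ⟶ Z) (eP : P' ⟶ P)
  [IsOpenImmersion eX] [IsOpenImmersion eY] [IsOpenImmersion eZ] [IsOpenImmersion eP]
  (hi : eZ ≫ i = i' ≫ eX) (hj : eZ ≫ j = j' ≫ eY) (ha : eX ≫ a = a' ≫ eP) (hb : eY ≫ b = b' ≫ eP)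
  (rX : a ⁻¹ᵁ eP.opensRange = eX.opensRange) (rY : b ⁻¹ᵁ eP.opensRange = eY.opensRange)
  (rZ : i ⁻¹ᵁ eX.opensRange = eZ.opensRange) (w : i ≫ a = j ≫ b) (w' : i' ≫ a' = j' ≫ b')

include hi hj ha hb rX rY rZ w w'

theorem chart_iff {O : P.Opens} (hO : O ≤ eP.opensRange) :
    Chart i j a b O ↔ Chart i' j' a' b' (eP ⁻¹ᵁ O) := by
  have hX : a ⁻¹ᵁ O ≤ eX.opensRange := rX ▸ a.preimage_mono hO
  have hY : b ⁻¹ᵁ O ≤ eY.opensRange := rY ▸ b.preimage_mono hO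
  have hZ : i ⁻¹ᵁ a ⁻¹ᵁ O ≤ eZ.opensRange := rZ ▸ i.preimage_mono hX
  have pX : a' ⁻¹ᵁ eP ⁻¹ᵁ O = eX ⁻¹ᵁ a ⁻¹ᵁ O := by
    rw [← Scheme.Hom.comp_preimage, ← ha, Scheme.Hom.comp_preimage]
  have pY : b' ⁻¹ᵁ eP ⁻¹ᵁ O = eY ⁻¹ᵁ b ⁻¹ᵁ O := by
    rw [← Scheme.Hom.comp_preimage, ← hb, Scheme.Hom.comp_preimage]
  have pZ : i' ⁻¹ᵁ a' ⁻¹ᵁ eP ⁻¹ᵁ O = eZ ⁻¹ᵁ i ⁻¹ᵁ a ⁻¹ᵁ O := by
    rw [pX, ← Scheme.Hom.comp_preimage, ← hi, Scheme.Hom.comp_preimage]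
  have le : i ⁻¹ᵁ a ⁻¹ᵁ O ≤ j ⁻¹ᵁ b ⁻¹ᵁ O := by
    rw [← Scheme.Hom.comp_preimage, w, Scheme.Hom.comp_preimage]
  have le' : i' ⁻¹ᵁ a' ⁻¹ᵁ eP ⁻¹ᵁ O ≤ j' ⁻¹ᵁ b' ⁻¹ᵁ eP ⁻¹ᵁ O := by
    rw [← Scheme.Hom.comp_preimage, w', Scheme.Hom.comp_preimage]
  have bA := bij_appLE eZ hZ pZ
  have bA' := bij_appLE eX hX pX
  have bB := bij_appLE eY hY pY
  have bB' := bij_appLE eP hO rfl
  have s1 : i.app (a ⁻¹ᵁ O) ≫ eZ.appLE (i ⁻¹ᵁ a ⁻¹ᵁ O) _ pZ.le =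
      eX.appLE (a ⁻¹ᵁ O) _ pX.le ≫ i'.app (a' ⁻¹ᵁ eP ⁻¹ᵁ O) := by
    simp only [Scheme.Hom.app_eq_appLE]
    exact sq_appLE hi _ _ _ _
  have s2 : j.appLE (b ⁻¹ᵁ O) (i ⁻¹ᵁ a ⁻¹ᵁ O) le ≫ eZ.appLE (i ⁻¹ᵁ a ⁻¹ᵁ O) _ pZ.le =
      eY.appLE (b ⁻¹ᵁ O) _ pY.le ≫ j'.appLE (b' ⁻¹ᵁ eP ⁻¹ᵁ O) _ le' := sq_appLE hj _ _ _ _
  have s3 : b.app O ≫ eY.appLE (b ⁻¹ᵁ O) _ pY.le = eP.appLE O (eP ⁻¹ᵁ O) le_rfl ≫ b'.app (eP ⁻¹ᵁ O) := by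
    simp only [Scheme.Hom.app_eq_appLE]
    exact sq_appLE hb _ _ _ _
  have s4 : a.app O ≫ eX.appLE (a ⁻¹ᵁ O) _ pX.le = eP.appLE O (eP ⁻¹ᵁ O) le_rfl ≫ a'.app (eP ⁻¹ᵁ O) := by
    simp only [Scheme.Hom.app_eq_appLE]
    exact sq_appLE ha _ _ _ _
  constructor
  · intro c
    refine ⟨(isAffineOpen_preimage_iff eP hO).2 c.affO, pX ▸ (isAffineOpen_preimage_iff eX hX).2 c.affX,
      pY ▸ (isAffineOpen_preimage_iff eY hY).2 c.affY, pZ ▸ (isAffineOpen_preimage_iff eZ hZ).2 c.affZ, le', ?_⟩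
    refine congr c.ferrand _ _ _ _ bA bA' bB bB' ?_ ?_ ?_ ?_
    · exact congrArg CommRingCat.Hom.hom s1.symm
    · exact congrArg CommRingCat.Hom.hom s2.symm
    · exact congrArg CommRingCat.Hom.hom s3.symm
    · exact congrArg CommRingCat.Hom.hom s4.symm
  · intro c
    refine ⟨(isAffineOpen_preimage_iff eP hO).1 c.affO, (isAffineOpen_preimage_iff eX hX).1 (pX ▸ c.affX),
      (isAffineOpen_preimage_iff eY hY).1 (pY ▸ c.affY), (isAffineOpen_preimage_iff eZ hZ).1 (pZ ▸ c.affZ), le, ?_⟩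
    refine congr c.ferrand (RingEquiv.ofBijective _ bA).symm.toRingHom (RingEquiv.ofBijective _ bA').symm.toRingHom
      (RingEquiv.ofBijective _ bB).symm.toRingHom (RingEquiv.ofBijective _ bB').symm.toRingHom
      (RingEquiv.bijective _) (RingEquiv.bijective _) (RingEquiv.bijective _) (RingEquiv.bijective _) ?_ ?_ ?_ ?_
    all_goals
      refine RingHom.ext fun x => ?_
      simp only [RingHom.comp_apply, RingEquiv.toRingHom_eq_coe, RingEquiv.coe_toRingHom]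
    · refine ((RingEquiv.ofBijective _ bA).symm_apply_eq.2 ?_).symm
      show _ = (i.app (a ⁻¹ᵁ O) ≫ eZ.appLE (i ⁻¹ᵁ a ⁻¹ᵁ O) _ pZ.le) _
      rw [s1]
      exact (congrArg (i'.app (a' ⁻¹ᵁ eP ⁻¹ᵁ O)).hom ((RingEquiv.ofBijective _ bA').apply_symm_apply x)).symm
    · refine ((RingEquiv.ofBijective _ bA).symm_apply_eq.2 ?_).symm
      show _ = (j.appLE (b ⁻¹ᵁ O) (i ⁻¹ᵁ a ⁻¹ᵁ O) le ≫ eZ.appLE (i ⁻¹ᵁ a ⁻¹ᵁ O) _ pZ.le) _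
      rw [s2]
      exact (congrArg (j'.appLE (b' ⁻¹ᵁ eP ⁻¹ᵁ O) _ le').hom ((RingEquiv.ofBijective _ bB).apply_symm_apply x)).symm
    · refine ((RingEquiv.ofBijective _ bB).symm_apply_eq.2 ?_).symm
      show _ = (b.app O ≫ eY.appLE (b ⁻¹ᵁ O) _ pY.le) _
      rw [s3]
      exact (congrArg (b'.app (eP ⁻¹ᵁ O)).hom ((RingEquiv.ofBijective _ bB').apply_symm_apply x)).symm
    · refine ((RingEquiv.ofBijective _ bA').symm_apply_eq.2 ?_).symm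
      show _ = (a.app O ≫ eX.appLE (a ⁻¹ᵁ O) _ pX.le) _
      rw [s4]
      exact (congrArg (a'.app (eP ⁻¹ᵁ O)).hom ((RingEquiv.ofBijective _ bB').apply_symm_apply x)).symm

theorem isPinch_of_openImmersion (H : IsPinch i j a b) : IsPinch i' j' a' b' := by
  refine ⟨w', fun x => ?_⟩
  obtain ⟨O, hx, hO, c⟩ := H.exists_chart_le (eP x) eP.opensRange ⟨x, rfl⟩
  exact ⟨eP ⁻¹ᵁ O, hx, (chart_iff eX eY eZ eP hi hj ha hb rX rY rZ w w' hO).1 c⟩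

theorem exists_chart_of_openImmersion (H : IsPinch i' j' a' b') (x : P') : ∃ O, eP x ∈ O ∧ Chart i j a b O := by
  obtain ⟨O, hx, c⟩ := H.cover x
  refine ⟨eP ''ᵁ O, ⟨x, hx, rfl⟩, (chart_iff eX eY eZ eP hi hj ha hb rX rY rZ w w' (eP.image_le_opensRange O)).2 ?_⟩
  rwa [Scheme.Hom.preimage_image_eq]

end

/-- Pinching squares are invariant under isomorphism of the corner. -/
theorem isPinch_of_iso {X Y Z P P' : Scheme.{u}} {i : Z ⟶ X} {j : Z ⟶ Y} {a : X ⟶ P} {b : Y ⟶ P}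
    (H : IsPinch i j a b) (e : P' ≅ P) {a' : X ⟶ P'} {b' : Y ⟶ P'} (ha : a' ≫ e.hom = a) (hb : b' ≫ e.hom = b) :
    IsPinch i j a' b' := by
  have htop : ∀ {V W : Scheme.{u}} (f : V ⟶ W) [IsIso f], f.opensRange = ⊤ := fun f _ =>
    Scheme.Hom.opensRange_of_isIso f
  refine isPinch_of_openImmersion (𝟙 X) (𝟙 Y) (𝟙 Z) e.hom (by simp) (by simp) (by simp [ha]) (by simp [hb])
    (by rw [htop, htop]; rfl) (by rw [htop, htop]; rfl) (by rw [htop, htop]; rfl) H.w ?_ H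
  rw [← cancel_mono e.hom, Category.assoc, Category.assoc, ha, hb, H.w]

/-- A pushout of a span admitting a pinching is a pinching. -/
theorem isPinch_of_isPushout {X Y Z P P' : Scheme.{u}} {i : Z ⟶ X} {j : Z ⟶ Y} {a : X ⟶ P} {b : Y ⟶ P}
    (H : IsPinch i j a b) {a' : X ⟶ P'} {b' : Y ⟶ P'} (h : IsPushout i j a' b') : IsPinch i j a' b' :=
  isPinch_of_iso H (h.isoIsPushout _ _ H.isPushout) (IsPushout.inl_isoIsPushout_hom _ _ h _) (IsPushout.inr_isoIsPushout_hom _ _ h _)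

end Groth.Agent.Pinch4
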